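import Cfsg.Agent.SimsChain.Interval
import Cfsg.Prelude.Def_Transfer

/-!
A subgroup `P` with `P ∩ φ P` normal of prime index in `φ P` and with no nontrivial `φ`-invariant
normal subgroup is an interval generated `p`-group.
-/

set_option autoImplicit false
set_option linter.unusedSectionVars false

namespace Cfsg.Agent.SimsChain

open Subgroup
open scoped commutatorElement

variable {G : Type*} [Group G] [Finite G]

/-- The descending chain. -/
def E (φ : G ≃* G) (P : Subgroup G) : ℕ → Subgroup G
  | 0 => P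
  | i + 1 => P ⊓ (E φ P i).map φ.toMonoidHom

theorem E_le (φ : G ≃* G) (P : Subgroup G) : ∀ i, E φ P i ≤ P
  | 0 => le_rfl
  | _ + 1 => inf_le_left

theorem E_succ_le (φ : G ≃* G) (P : Subgroup G) : ∀ i, E φ P (i + 1) ≤ E φ P i
  | 0 => inf_le_left
  | i + 1 => inf_le_inf le_rfl (map_mono (E_succ_le φ P i))

theorem pow_apply_map (φ : MulAut G) (i : ℕ) (g : G) : (φ ^ (i + 1)) g = φ ((φ ^ i) g) := by
  rw [pow_succ', MulAut.mul_apply]

theorem card_mul_relIndex' {A B : Subgroup G} (h : A ≤ B) :
    Nat.card A * A.relIndex B = Nat.card B := by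
  rw [← relIndex_bot_left, ← relIndex_bot_left]
  exact relIndex_mul_relIndex _ _ _ bot_le h

theorem normal_of_relIndex_prime {p : ℕ} [Fact p.Prime] {A B : Subgroup G} (hB : IsPGroup p B)
    (hle : A ≤ B) (hidx : A.relIndex B = p) : B ≤ normalizer (A : Set G) := by
  haveI : (A.subgroupOf B).Normal := by
    obtain ⟨n, hn⟩ := IsPGroup.iff_card.mp hB
    refine normal_of_index_eq_minFac_card (show (A.subgroupOf B).index = _ from ?_)
    have hp : p.Prime := Fact.out
    rcases n with _ | n
    · exfalso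
      have h1 := relIndex_dvd_card A B
      rw [hidx, hn, pow_zero, Nat.dvd_one] at h1
      exact hp.ne_one h1
    · rw [hn, Nat.pow_minFac (Nat.succ_ne_zero n), hp.minFac_eq]
      exact hidx
  exact (normal_subgroupOf_iff_le_normalizer hle).mp inferInstance

theorem chain (φ : G ≃* G) (P : Subgroup G) {p : ℕ} (hp : p.Prime)
    (hn : ((P ⊓ P.map φ.toMonoidHom).subgroupOf (P.map φ.toMonoidHom)).Normal)
    (hidx : (P ⊓ P.map φ.toMonoidHom).relIndex (P.map φ.toMonoidHom) = p)
    (hcore : ∀ Q : Subgroup G, Q ≤ P → (Q.subgroupOf P).Normal → Q.map φ.toMonoidHom = Q → Q = ⊥) :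
    ∃ (t : ℕ) (x : ℤ → G), 1 ≤ t ∧ Nat.card P = p ^ t ∧ J x 0 t = P ∧
      (∀ k, x k = ((φ : MulAut G) ^ k) (x 0)) ∧ (∀ k, x k ^ p = 1) ∧ (∀ k, x k ≠ 1) ∧
      (∀ i j : ℤ, i < j → j - i < t → ⁅x j, x i⁆ ∈ J x (i + 1) j) ∧
      (∀ a b c : ℤ, a ≤ b → b ≤ c → c - a ≤ t → J x a b ⊓ J x b c = ⊥) ∧
      (∀ (a : ℤ) (l : ℕ), l ≤ t → Nat.card (J x a (a + l)) = p ^ l) := by
  classical
  haveI := Fact.mk hp
  set φP := P.map φ.toMonoidHom with hφP
  set D := P ⊓ φP with hD
  -- subgroups of `φ P` not inside `P`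
  have hrel : ∀ A : Subgroup G, A ≤ φP →
      ((P ⊓ A).relIndex A ∣ p) ∧ ((P ⊓ A).subgroupOf A).Normal := by
    intro A hA
    haveI := hn
    let f : A →* φP ⧸ D.subgroupOf φP := (QuotientGroup.mk' (D.subgroupOf φP)).comp (inclusion hA)
    have hker : f.ker = (P ⊓ A).subgroupOf A := by
      ext a
      rw [MonoidHom.mem_ker, mem_subgroupOf]
      show (QuotientGroup.mk (inclusion hA a) : φP ⧸ D.subgroupOf φP) = 1 ↔ _
      rw [QuotientGroup.eq_one_iff, mem_subgroupOf]
      exact ⟨fun h => ⟨h.1, a.2⟩, fun h => ⟨h.1, hA a.2⟩⟩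
    refine ⟨?_, hker ▸ inferInstance⟩
    rw [relIndex, ← hker, index_ker]
    refine (card_subgroup_dvd_card f.range).trans ?_
    rw [← index_eq_card]
    exact dvd_of_eq hidx
  -- elements of order prime to `p`
  have hC : ∀ y ∈ P, (orderOf y).Coprime p → ∀ i, ((φ : MulAut G) ^ i) y ∈ E φ P i := by
    intro y hy hyp i
    induction i with
    | zero => simpa [E] using hy
    | succ i ih =>
      rw [pow_apply_map]
      have hmem : φ (((φ : MulAut G) ^ i) y) ∈ (E φ P i).map φ.toMonoidHom := ⟨_, ih, rfl⟩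
      refine ⟨?_, hmem⟩
      obtain ⟨h1, h2⟩ := hrel ((E φ P i).map φ.toMonoidHom) (map_mono (E_le φ P i))
      haveI := h2
      set A := (E φ P i).map φ.toMonoidHom
      have h3 : (QuotientGroup.mk (⟨_, hmem⟩ : A) : A ⧸ (P ⊓ A).subgroupOf A) = 1 := by
        rw [← orderOf_eq_one_iff]
        refine Nat.eq_one_of_dvd_coprimes hyp ?_
          ((_root_.orderOf_dvd_natCard _).trans (by rw [← index_eq_card]; exact h1))
        refine (orderOf_map_dvd (QuotientGroup.mk' ((P ⊓ A).subgroupOf A)) (⟨_, hmem⟩ : A)).trans ?_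
        rw [Subgroup.orderOf_mk, MulEquiv.orderOf_eq, MulEquiv.orderOf_eq]
      exact (mem_subgroupOf.mp ((QuotientGroup.eq_one_iff _).mp h3)).1
  have hPp : IsPGroup p P := by
    set C : Set G := {y | y ∈ P ∧ (orderOf y).Coprime p} with hCdef
    have hφC : φ '' C ⊆ C := by
      rintro _ ⟨y, ⟨hy, hyp⟩, rfl⟩
      refine ⟨?_, by rwa [MulEquiv.orderOf_eq]⟩
      simpa [E] using (hC y hy hyp 1).1
    have hφC' : φ '' C = C :=
      Set.eq_of_subset_of_ncard_le hφC (Set.ncard_image_of_injective C φ.injective).ge C.toFinite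
    have hR : closure C = ⊥ := by
      refine hcore _ ((closure_le _).mpr fun y hy => hy.1) ?_ ?_
      · refine (normal_subgroupOf_iff_le_normalizer ((closure_le _).mpr fun y hy => hy.1)).mpr
          fun g hg => ?_
        rw [mem_normalizer_iff_map_conj_eq, MonoidHom.map_closure]
        congr 1
        ext z
        constructor
        · rintro ⟨y, ⟨hy, hyp⟩, rfl⟩
          exact ⟨mul_mem (mul_mem hg hy) (inv_mem hg), by
            show (orderOf (MulAut.conj g y)).Coprime p
            rwa [MulEquiv.orderOf_eq]⟩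
        · rintro ⟨hz, hzp⟩
          refine ⟨(MulAut.conj g).symm z, ⟨?_, by rwa [MulEquiv.orderOf_eq]⟩,
            (MulAut.conj g).apply_symm_apply z⟩
          rw [MulAut.conj_symm_apply]
          exact mul_mem (mul_mem (inv_mem hg) hz) hg
      · rw [MonoidHom.map_closure]
        exact congrArg Subgroup.closure hφC'
    intro g
    obtain ⟨a, m, hm, he⟩ := Nat.exists_eq_pow_mul_and_not_dvd (orderOf_pos (g : G)).ne' p hp.ne_one
    refine ⟨a, Subtype.ext ?_⟩
    rw [SubmonoidClass.coe_pow, OneMemClass.coe_one]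
    have h1 : (g : G) ^ p ^ a ∈ closure C := subset_closure ⟨pow_mem g.2 _, by
      rw [orderOf_pow' _ (pow_ne_zero a hp.ne_zero), he, Nat.gcd_mul_right_left,
        Nat.mul_div_cancel_left _ (pow_pos hp.pos a)]
      exact ((hp.coprime_iff_not_dvd).mpr hm).symm⟩
    rwa [hR, mem_bot] at h1
  -- the stabilising index
  have hcardlt : ∀ i, ¬ (E φ P i).map φ.toMonoidHom ≤ P →
      Nat.card (E φ P i) = p * Nat.card (E φ P (i + 1)) := by
    intro i hi
    set A := (E φ P i).map φ.toMonoidHom with hA
    have h1 := (hrel A (map_mono (E_le φ P i))).1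
    have h2 : (P ⊓ A).relIndex A = p := by
      rcases (Nat.dvd_prime hp).mp h1 with e | e
      · exact absurd ((relIndex_eq_one.mp e).trans inf_le_left) hi
      · exact e
    have h3 := card_mul_relIndex' (inf_le_right : P ⊓ A ≤ A)
    rw [h2] at h3
    rw [← card_map_of_injective (f := φ.toMonoidHom) φ.injective, ← hA, ← h3, mul_comm]
    rfl
  have hex : ∃ m, (E φ P m).map φ.toMonoidHom ≤ P := by
    by_contra hcon
    push Not at hcon
    have hall : ∀ i, i + Nat.card (E φ P i) ≤ Nat.card P := by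
      intro i
      induction i with
      | zero => simp [E]
      | succ i ih =>
        have h1 := hcardlt i (hcon i)
        have h2 : 0 < Nat.card (E φ P (i + 1)) := Nat.card_pos
        have h3 := Nat.mul_le_mul_right (Nat.card (E φ P (i + 1))) hp.two_le
        omega
    have h1 := hall (Nat.card P + 1)
    omega
  set m := Nat.find hex with hm
  have hmle := Nat.find_spec hex
  have hlt : ∀ i, i < m → ¬ (E φ P i).map φ.toMonoidHom ≤ P := fun i hi => Nat.find_min hex hi
  have hfix : (E φ P m).map φ.toMonoidHom = E φ P m := by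
    have h1 : (E φ P m).map φ.toMonoidHom = E φ P (m + 1) := (inf_eq_right.mpr hmle).symm
    refine eq_of_le_of_card_ge (h1.le.trans (E_succ_le φ P m)) ?_
    rw [card_map_of_injective φ.injective]
  have hm1 : 1 ≤ m := by
    by_contra h0
    have h1 : m = 0 := by omega
    have h2 : φP ≤ P := by rw [hm] at h1; rw [h1] at hmle; exact hmle
    rw [hD, inf_eq_right.mpr h2, relIndex_self] at hidx
    exact hp.ne_one hidx.symm
  -- generation
  set ψ := φ.symm.toMonoidHom with hψ
  have hψle : ∀ i, (E φ P (i + 1)).map ψ ≤ E φ P i := by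
    intro i z hz
    obtain ⟨w, hw, rfl⟩ := hz
    obtain ⟨v, hv, rfl⟩ := hw.2
    simpa [hψ] using hv
  have hrel' : ∀ i, i < m → (E φ P (i + 1)).relIndex (E φ P i) = p := by
    intro i hi
    have h1 := card_mul_relIndex' (E_succ_le φ P i)
    rw [hcardlt i (hlt i hi), mul_comm p] at h1
    exact Nat.eq_of_mul_eq_mul_left Nat.card_pos h1
  have hnormal : ∀ i, i < m → E φ P i ≤ normalizer (E φ P (i + 1) : Set G) := fun i hi =>
    normal_of_relIndex_prime (hPp.to_le (E_le φ P i)) (E_succ_le φ P i) (hrel' i hi)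
  have hsup : ∀ i, i + 1 < m → E φ P i = E φ P (i + 1) ⊔ (E φ P (i + 1)).map ψ := by
    intro i hi
    have h1 : E φ P (i + 1) ⊔ (E φ P (i + 1)).map ψ ≤ E φ P i := sup_le (E_succ_le φ P i) (hψle i)
    refine (le_antisymm h1 ?_).symm
    have h2 := relIndex_mul_relIndex (E φ P (i + 1)) _ (E φ P i) le_sup_left h1
    rw [hrel' i (by omega)] at h2
    rcases (Nat.dvd_prime hp).mp (dvd_of_mul_right_eq _ h2) with e | e
    · exfalso
      refine hlt (i + 1) hi ?_
      have h3 : (E φ P (i + 1)).map ψ ≤ E φ P (i + 1) := le_sup_right.trans (relIndex_eq_one.mp e)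
      have h4 : (E φ P (i + 1)).map ψ = E φ P (i + 1) :=
        eq_of_le_of_card_ge h3 (card_map_of_injective φ.symm.injective).ge
      have h5 : (E φ P (i + 1)).map φ.toMonoidHom = E φ P (i + 1) := by
        conv_lhs => rw [← h4, map_map]
        convert map_id (E φ P (i + 1)) using 2
        ext z; simp [hψ]
      exact h5.le.trans (E_le φ P _)
    · rw [e] at h2
      exact relIndex_eq_one.mp (Nat.eq_of_mul_eq_mul_left hp.pos (h2.trans (mul_one p).symm))
  have hEm : E φ P m = ⊥ := by
    have hN : ∀ j, ∀ i, i + j = m - 1 → E φ P i ≤ normalizer (E φ P m : Set G) := by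
      intro j
      induction j with
      | zero =>
        intro i hi
        have := hnormal i (by omega)
        rwa [show i + 1 = m by omega] at this
      | succ j ih =>
        intro i hi
        rw [hsup i (by omega)]
        refine sup_le (ih (i + 1) (by omega)) ?_
        rintro _ ⟨z, hz, rfl⟩
        have hz' := mem_normalizer_iff_map_conj_eq.mp (ih (i + 1) (by omega) hz)
        rw [mem_normalizer_iff_map_conj_eq]
        have hψfix : (E φ P m).map ψ = E φ P m := by
          conv_lhs => rw [← hfix, map_map]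
          convert map_id (E φ P m) using 2
          ext w; simp [hψ]
        calc (E φ P m).map (MulAut.conj (ψ z)).toMonoidHom
            = ((E φ P m).map (MulAut.conj z).toMonoidHom).map ψ := by
              conv_lhs => rw [← hψfix]
              rw [map_map, map_map]
              congr 1
              ext w
              simp [hψ]
          _ = _ := by
              rw [show (E φ P m).map (MulAut.conj z).toMonoidHom = E φ P m from hz', hψfix]
    exact hcore _ (E_le φ P m)
      ((normal_subgroupOf_iff_le_normalizer (E_le φ P m)).mpr (hN (m - 1) 0 (by omega))) hfix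
  have hcardE : ∀ j i, i + j = m → Nat.card (E φ P i) = p ^ j := by
    intro j
    induction j with
    | zero => intro i hi; rw [show i = m by omega, hEm, card_bot, pow_zero]
    | succ j ih =>
      intro i hi
      rw [hcardlt i (hlt i (by omega)), ih (i + 1) (by omega), pow_succ']
  -- the generators
  obtain ⟨e, he⟩ : ∃ e : G, E φ P (m - 1) = zpowers e := by
    have h1 := hcardE 1 (m - 1) (by omega)
    rw [pow_one] at h1
    haveI := isCyclic_of_prime_card h1
    obtain ⟨e, he⟩ := IsCyclic.exists_zpow_surjective (G := E φ P (m - 1))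
    refine ⟨e, le_antisymm (fun g hg => ?_) (zpowers_le.mpr e.2)⟩
    obtain ⟨k, hk⟩ := he ⟨g, hg⟩
    exact ⟨k, congrArg Subtype.val hk⟩
  set x : ℤ → G := fun k => ((φ : MulAut G) ^ (k - ((m : ℤ) - 1))) e with hx
  have hxk : ∀ k l : ℤ, ((φ : MulAut G) ^ k) (x l) = x (k + l) := fun k l => by
    simp only [hx]
    rw [← MulAut.mul_apply, ← zpow_add, add_sub]
  have hJmap : ∀ k a b : ℤ, (J x a b).map ((φ : MulAut G) ^ k).toMonoidHom = J x (a + k) (b + k) := by
    intro k a b
    rw [J, J, MonoidHom.map_closure]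
    refine congrArg Subgroup.closure (Set.ext fun g => ⟨?_, ?_⟩)
    · rintro ⟨_, ⟨l, ⟨h1, h2⟩, rfl⟩, rfl⟩
      exact ⟨l + k, ⟨by omega, by omega⟩, by rw [add_comm]; exact (hxk k l).symm⟩
    · rintro ⟨l, ⟨h1, h2⟩, rfl⟩
      exact ⟨x (l - k), ⟨l - k, ⟨by omega, by omega⟩, rfl⟩, (hxk k (l - k)).trans (by rw [add_sub_cancel])⟩
  have hJE : ∀ j i : ℕ, i + j + 1 = m → J x i m = E φ P i := by
    intro j
    induction j with
    | zero =>
      intro i hi
      rw [show (m : ℤ) = (i : ℤ) + 1 by omega, J_single, show i = m - 1 by omega, he]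
      simp only [hx]
      rw [show ((m - 1 : ℕ) : ℤ) - ((m : ℤ) - 1) = 0 by omega, zpow_zero, MulAut.one_apply]
    | succ j ih =>
      intro i hi
      rw [hsup i (by omega), ← ih (i + 1) (by omega)]
      have h1 : (J x ((i + 1 : ℕ) : ℤ) m).map ψ = J x i ((m : ℤ) - 1) := by
        have h2 := hJmap (-1) ((i + 1 : ℕ) : ℤ) m
        rw [show ((i + 1 : ℕ) : ℤ) + -1 = i by omega, show (m : ℤ) + -1 = (m : ℤ) - 1 by omega] at h2
        rw [← h2]
        rfl
      rw [h1]
      refine le_antisymm ?_ (sup_le (J_mono x (by omega) le_rfl) (J_mono x le_rfl (by omega)))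
      rw [← J_sup x (show (i : ℤ) ≤ (i : ℤ) + 1 by omega) (show (i : ℤ) + 1 ≤ m by omega), sup_comm]
      exact sup_le_sup (J_mono x (by omega) le_rfl) (J_mono x le_rfl (by omega))
  have hcard : ∀ (a : ℤ) (l : ℕ), l ≤ m → Nat.card (J x a (a + l)) = p ^ l := by
    intro a l hl
    rcases Nat.eq_zero_or_pos l with rfl | hl0
    · rw [J_empty x (by simp), card_bot, pow_zero]
    obtain ⟨i, hi⟩ : ∃ i : ℕ, i + l = m := ⟨m - l, by omega⟩
    rw [← hcardE l i hi, ← hJE (l - 1) i (by omega)]
    have h := hJmap (a - i) i m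
    rw [show (i : ℤ) + (a - i) = a by omega, show (m : ℤ) + (a - i) = a + l by omega] at h
    rw [← h]
    exact card_map_of_injective ((φ : MulAut G) ^ (a - i)).injective
  have hJ0 : J x 0 m = P := by
    have := hJE (m - 1) 0 (by omega)
    simpa [E] using this
  have hJp : ∀ (a : ℤ) (l : ℕ), l ≤ m → IsPGroup p (J x a (a + l)) := fun a l hl =>
    IsPGroup.of_card (hcard a l hl)
  refine ⟨m, x, hm1, by simpa [E] using hcardE m 0 (by omega), hJ0, fun k => ?_, fun k => ?_,
    fun k => ?_, ?_, ?_, hcard⟩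
  · rw [hxk k 0, add_zero]
  · have h := hcard k 1 hm1
    rw [pow_one, Nat.cast_one, J_single, Nat.card_zpowers] at h
    conv_lhs => rw [← h]
    exact pow_orderOf_eq_one _
  · intro hk
    have h := hcard k 1 hm1
    rw [pow_one, Nat.cast_one, J_single, Nat.card_zpowers, hk, orderOf_one] at h
    exact hp.ne_one h.symm
  · intro i j hij hlt'
    obtain ⟨l, hl⟩ : ∃ l : ℕ, j = i + (l + 1) := ⟨(j - i - 1).toNat, by omega⟩
    subst hl
    have hL : l + 2 ≤ m := by omega
    set A := J x i (i + (l + 1)) with hA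
    set B := J x (i + 1) (i + (l + 1) + 1) with hB
    set T := J x i (i + (l + 1) + 1) with hT
    have hTp : IsPGroup p T := by
      have := hJp i (l + 2) hL
      rwa [show i + ((l + 2 : ℕ) : ℤ) = i + (l + 1) + 1 by omega] at this
    have hTc : Nat.card T = p ^ (l + 2) := by
      have := hcard i (l + 2) hL
      rwa [show i + ((l + 2 : ℕ) : ℤ) = i + (l + 1) + 1 by omega] at this
    have hAc : Nat.card A = p ^ (l + 1) := by
      have := hcard i (l + 1) (by omega)
      rwa [show i + ((l + 1 : ℕ) : ℤ) = i + (l + 1) by omega] at this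
    have hBc : Nat.card B = p ^ (l + 1) := by
      have := hcard (i + 1) (l + 1) (by omega)
      rwa [show i + 1 + ((l + 1 : ℕ) : ℤ) = i + (l + 1) + 1 by omega] at this
    have hAT : A ≤ T := J_mono x le_rfl (by omega)
    have hBT : B ≤ T := J_mono x (by omega) le_rfl
    have hri : ∀ S : Subgroup G, S ≤ T → Nat.card S = p ^ (l + 1) → T ≤ normalizer (S : Set G) :=
      fun S hS hSc => normal_of_relIndex_prime hTp hS (by
        have h1 := card_mul_relIndex' hS
        rw [hSc, hTc, pow_succ p (l + 1)] at h1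
        exact Nat.eq_of_mul_eq_mul_left (pow_pos hp.pos _) h1)
    have hxi : x i ∈ A := mem_J x le_rfl (by omega)
    have hxj : x (i + (l + 1)) ∈ B := mem_J x (by omega) (by omega)
    have h1 : ⁅x (i + (l + 1)), x i⁆ ∈ A := by
      rw [commutatorElement_def]
      exact mul_mem ((mem_normalizer_iff.mp (hri A hAT hAc (hBT hxj)) _).mp hxi) (inv_mem hxi)
    have h2 : ⁅x (i + (l + 1)), x i⁆ ∈ B := by
      rw [commutatorElement_def, mul_assoc, mul_assoc, ← mul_assoc (x i)]
      exact mul_mem hxj ((mem_normalizer_iff.mp (hri B hBT hBc (hAT hxi)) _).mp (inv_mem hxj))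
    have h3 : A ⊓ B = J x (i + 1) (i + (l + 1)) := by
      refine (eq_of_le_of_card_ge (le_inf (J_mono x (by omega) le_rfl) (J_mono x le_rfl (by omega))) ?_).symm
      have hne : A ⊓ B ≠ A := by
        intro e
        have hAB : A = B := eq_of_le_of_card_ge (inf_eq_left.mp e) (by rw [hAc, hBc])
        have hTA : T ≤ A := by
          rw [hT, ← J_sup x (show i ≤ i + (l + 1) by omega) (show i + ((l : ℤ) + 1) ≤ i + (l + 1) + 1 by omega)]
          refine sup_le le_rfl ?_
          rw [hAB]
          exact J_mono x (by omega) le_rfl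
        have := card_le_of_le hTA
        rw [hTc, hAc] at this
        exact absurd this (not_le.mpr (Nat.pow_lt_pow_right hp.one_lt (by omega)))
      obtain ⟨r, -, hr⟩ := (Nat.dvd_prime_pow hp).mp (hAc ▸ card_dvd_of_le (inf_le_left : A ⊓ B ≤ A))
      have hr2 : r < l + 1 := by
        by_contra hge
        refine hne (eq_of_le_of_card_ge inf_le_left ?_)
        rw [hr, hAc]
        exact Nat.pow_le_pow_right hp.pos (not_lt.mp hge)
      have hc := hcard (i + 1) l (by omega)
      rw [show i + 1 + (l : ℤ) = i + (l + 1) by omega] at hc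
      rw [hc, hr]
      exact Nat.pow_le_pow_right hp.pos (by omega)
    rw [← h3]
    exact ⟨h1, h2⟩
  · intro a b c hab hbc hca
    obtain ⟨l₁, hl₁⟩ : ∃ l : ℕ, b = a + l := ⟨(b - a).toNat, by omega⟩
    obtain ⟨l₂, hl₂⟩ : ∃ l : ℕ, c = b + l := ⟨(c - b).toNat, by omega⟩
    clear hab hbc
    induction l₁ generalizing a with
    | zero => rw [J_empty x (by omega), bot_inf_eq]
    | succ l₁ ih =>
      subst hl₁
      -- peel off the first generator
      set b := a + ((l₁ + 1 : ℕ) : ℤ) with hb
      have hIH := ih (a + 1) (by omega) (by omega)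
      have hlcard := hcard a (l₁ + 1) (by omega)
      have hTc := hcard a (l₁ + 1 + l₂) (by omega)
      rw [show a + ((l₁ + 1 + l₂ : ℕ) : ℤ) = c by omega] at hTc
      have hBc := hcard (a + 1) (l₁ + l₂) (by omega)
      rw [show a + 1 + ((l₁ + l₂ : ℕ) : ℤ) = c by omega] at hBc
      by_contra hne
      -- the intersection lies in `J (a + 1) b`
      have hAc : Nat.card (J x (a + 1) b) = p ^ l₁ := by
        have := hcard (a + 1) l₁ (by omega)
        rwa [show a + 1 + (l₁ : ℤ) = b by omega] at this
      have hle : J x a b ⊓ J x (a + 1) c = J x (a + 1) b := by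
        refine (eq_of_le_of_card_ge (le_inf (J_mono x (by omega) le_rfl) (J_mono x le_rfl (by omega))) ?_).symm
        obtain ⟨r, -, hr⟩ := (Nat.dvd_prime_pow hp).mp
          (hlcard ▸ card_dvd_of_le (inf_le_left : J x a b ⊓ J x (a + 1) c ≤ J x a b))
        have hr2 : r < l₁ + 1 := by
          by_contra hge
          have h1 : J x a b ≤ J x (a + 1) c := by
            refine inf_eq_left.mp (eq_of_le_of_card_ge inf_le_left ?_)
            rw [hr, hlcard]
            exact Nat.pow_le_pow_right hp.pos (not_lt.mp hge)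
          have h2 : J x a c ≤ J x (a + 1) c := by
            rw [← J_sup x (show a ≤ b by omega) (show b ≤ c by omega)]
            exact sup_le h1 (J_mono x (by omega) le_rfl)
          have h3 := card_le_of_le h2
          rw [hTc, hBc] at h3
          exact absurd h3 (not_le.mpr (Nat.pow_lt_pow_right hp.one_lt (by omega)))
        rw [hAc, hr]
        exact Nat.pow_le_pow_right hp.pos (by omega)
      refine hne (le_bot_iff.mp (le_trans ?_ hIH.le))
      refine le_inf ?_ inf_le_right
      rw [← hle]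
      exact le_inf inf_le_left (inf_le_right.trans (J_mono x (by omega) le_rfl))

end Cfsg.Agent.SimsChain
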