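import Cfsg.Agent.SimsChain.Amalgam
import Cfsg.Agent.S4Amalgam.Iso
import Cfsg.Agent.SylowFifteen.Small
import Cfsg.Agent.Fusion.Residual
import Cfsg.Prelude.Def_CaseTheorems

/-!
The isomorphism type of `H / O(H)`.
-/

set_option autoImplicit false
set_option linter.unusedSectionVars false
set_option linter.style.haveILetI false

namespace Cfsg.Agent.SimsChain

open Subgroup
open scoped commutatorElement

variable {G : Type*} [Group G] [Finite G]

/-- A group with a central Sylow 2-subgroup has a normal odd complement. -/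
theorem exists_odd_complement {L : Type*} [Group L] [Finite L] {A : Subgroup L}
    (hA : IsPGroup 2 A) (hidx : ¬ 2 ∣ A.index) (hc : ∀ a ∈ A, ∀ l : L, Commute a l) :
    ∃ N : Subgroup L, N.Characteristic ∧ (Nat.card N).Coprime 2 ∧ N ⊔ A = ⊤ := by
  set S : Sylow 2 L := hA.toSylow hidx with hS
  have hcomp := SylowFifteen.hasNormalPComplement_of_burnside S fun g _ =>
    mem_centralizer_iff.mpr fun s hs => (hc s hs g).eq
  refine ⟨_, Fusion.pResidual_characteristic, Fusion.coprime_card_pResidual_of_hasNormalPComplement hcomp,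
    ?_⟩
  have h := (Fusion.isComplement'_pResidual hcomp S).sup_eq_top
  exact h

theorem swap_pair_normalizer {g a b c : G} (hgg : g * g = 1) (ha : g * a * g⁻¹ = c)
    (hb : g * b * g⁻¹ = b) : g ∈ normalizer ({a, b, c} : Set G) := by
  have hc : g * c * g⁻¹ = a := by
    rw [← ha]
    calc g * (g * a * g⁻¹) * g⁻¹ = (g * g) * a * (g * g)⁻¹ := by group
      _ = a := by rw [hgg, one_mul, inv_one, mul_one]
  have key : ∀ n ∈ ({a, b, c} : Set G), g * n * g⁻¹ ∈ ({a, b, c} : Set G) := by
    rintro n (rfl | rfl | rfl)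
    · exact Or.inr (Or.inr ha)
    · exact Or.inr (Or.inl hb)
    · exact Or.inl hc
  refine mem_set_normalizer_iff.mpr fun n => ⟨key n, fun h => ?_⟩
  have h2 := key _ h
  have e : g * (g * n * g⁻¹) * g⁻¹ = n := by
    calc g * (g * n * g⁻¹) * g⁻¹ = (g * g) * n * (g * g)⁻¹ := by group
      _ = n := by rw [hgg, one_mul, inv_one, mul_one]
  rwa [e] at h2

theorem klein_of_small {K : Type*} [Group K] [Finite K] (hc : Nat.card K = 4)
    (h2 : ∀ a : K, a ^ 2 = 1) :
    Nonempty (K ≃* Multiplicative (ZMod 2) × Multiplicative (ZMod 2)) := by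
  haveI : Nontrivial K := Finite.one_lt_card_iff_nontrivial.mp (by omega)
  haveI : IsKleinFour K := ⟨hc, by
    rcases (Nat.dvd_prime Nat.prime_two).mp (Monoid.exponent_dvd_of_forall_pow_eq_one h2) with e | e
    · exact absurd (Monoid.exp_eq_one_iff.mp e) (not_subsingleton K)
    · exact e⟩
  haveI : IsKleinFour (Multiplicative (ZMod 2) × Multiplicative (ZMod 2)) := ⟨by simp, by
    refine Nat.dvd_antisymm ?_ ?_
    · exact Monoid.exponent_dvd_of_forall_pow_eq_one (by decide)
    · have h := Monoid.order_dvd_exponent ((Multiplicative.ofAdd (1 : ZMod 2)), (1 : Multiplicative (ZMod 2)))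
      rwa [orderOf_eq_prime (p := 2) (by decide) (by decide)] at h⟩
  exact IsKleinFour.nonempty_mulEquiv

theorem structure_of_config {H P : Subgroup G} {n : ℕ} (hn : 2 ≤ n)
    (e : ↥H ⧸ Cfsg.pCore 2 ↥H ≃* DihedralGroup n) (hPH : P ≤ H)
    (hPsyl : ¬ 2 ∣ P.relIndex H) {Q : Subgroup G}
    {t u : ℕ} {f : ℤ → G} (hQ : Q = (Cfsg.pCore 2 ↥H).map H.subtype) (C : Config H P Q t u f) :
    (Nat.card P = 4 ∨ Nat.card P = 8 ∨ Nat.card P = 16) ∧
    (Nonempty (↥H ⧸ Cfsg.oddCore ↥H ≃* Multiplicative (ZMod 2) × Multiplicative (ZMod 2)) ∨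
     Nonempty (↥H ⧸ Cfsg.oddCore ↥H ≃* Equiv.Perm (Fin 4)) ∨
     Nonempty (↥H ⧸ Cfsg.oddCore ↥H ≃* Equiv.Perm (Fin 4) × Multiplicative (ZMod 2))) := by
  classical
  haveI : NeZero n := ⟨by omega⟩
  haveI : Fact (Nat.Prime 2) := ⟨Nat.prime_two⟩
  refine ⟨?_, ?_⟩
  · rcases C.small with ⟨h, -⟩ | ⟨h, -⟩ | ⟨h, -⟩ <;> simp [C.card, h]
  -- generalities
  set Qc := Cfsg.pCore 2 ↥H with hQc
  set Pc := P.subgroupOf H with hPc
  set O := Cfsg.oddCore ↥H with hO
  haveI : Qc.Normal := Core.pCore_normal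
  haveI : O.Normal := inferInstance
  have hmemQ : ∀ h : ↥H, h ∈ Qc ↔ (h : G) ∈ Q := fun h => by
    rw [hQ]
    exact ⟨fun hh => ⟨h, hh, rfl⟩, fun ⟨h', hh', e'⟩ => Subtype.ext e' ▸ hh'⟩
  have hOcop : (Nat.card O).Coprime 2 := Core.coprime_card_pPrimeCore
  have hPp : IsPGroup 2 P := IsPGroup.of_card C.card
  have hPcp : IsPGroup 2 Pc := hPp.comap_subtype
  have hPO : ∀ h ∈ Pc, h ∈ O → h = 1 := fun h hh hhO => by
    obtain ⟨k, hk⟩ := IsPGroup.iff_orderOf.mp hPcp ⟨h, hh⟩
    rw [Subgroup.orderOf_mk] at hk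
    exact orderOf_eq_one_iff.mp (Nat.eq_one_of_dvd_coprimes (hOcop.symm.pow_left k) hk.dvd
      (Subgroup.orderOf_dvd_natCard O hhO))
  have hQPc : Qc ≤ Pc := fun h hh => by
    rw [mem_subgroupOf, ← C.Jp]
    refine J_mono f (a := 0) (b := (t : ℤ) - 1) le_rfl (by omega) ?_
    rw [C.Jq]
    exact (hmemQ h).mp hh
  set π := QuotientGroup.mk' O with hπ
  have hπs : Function.Surjective π := QuotientGroup.mk'_surjective O
  have hπinj : ∀ K : Subgroup ↥H, K ≤ Pc → Nat.card (K.map π) = Nat.card K := fun K hK => by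
    refine (Nat.card_congr (Equiv.ofBijective (π.subgroupMap K) ⟨?_, π.subgroupMap_surjective K⟩)).symm
    refine (injective_iff_map_eq_one _).mpr fun k hk => Subtype.ext ?_
    exact hPO k (hK k.2) ((QuotientGroup.eq_one_iff _).mp (congrArg Subtype.val hk))
  have hcardPc : Nat.card Pc = 2 ^ t :=
    (Nat.card_congr (subgroupOfEquivOfLe hPH).toEquiv).trans C.card
  have hmemf : ∀ k : ℤ, 0 ≤ k → k < t → f k ∈ H := fun k h1 h2 => hPH (C.Jp ▸ mem_J f h1 h2)
  have hcom' : ∀ i j : ℤ, i - j < u → j - i < u → Commute (f i) (f j) := by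
    intro i j h1 h2
    rcases lt_trichotomy i j with h | rfl | h
    · exact C.com i j h h2
    · exact Commute.refl _
    · exact (C.com j i h h1).symm
  have hsmall := C.small
  have hQidx : Qc.index = 2 * n := by
    rw [index_eq_card, Nat.card_congr e.toEquiv, DihedralGroup.nat_card]
  have hcardQ : Nat.card Qc = 2 ^ (t - 1) := by
    have h := C.card_J 0 (t - 1) (by omega)
    rw [show (0 : ℤ) + ((t - 1 : ℕ) : ℤ) = (t : ℤ) - 1 by omega, C.Jq, hQ,
      card_map_of_injective H.subtype_injective] at h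
    exact h
  have hnodd := odd_of_dihedral hn e
  by_cases ht : t = 2
  · -- four-group
    left
    subst ht
    obtain rfl : u = 2 := by omega
    have hX : Nat.card (↥H ⧸ O) = 4 := by
      -- the rotations
      set ρ : ↥H →* DihedralGroup n := e.toMonoidHom.comp (QuotientGroup.mk' Qc) with hρ
      have hρs : Function.Surjective ρ := e.surjective.comp (QuotientGroup.mk'_surjective Qc)
      set R := (zpowers (DihedralGroup.r 1 : DihedralGroup n)).comap ρ with hR
      have hRn : R.Normal := by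
        refine normal_of_index_eq_two ?_
        rw [hR, index_comap_of_surjective _ hρs]
        have h := (zpowers (DihedralGroup.r 1 : DihedralGroup n)).card_mul_index
        rw [Nat.card_zpowers, DihedralGroup.orderOf_r_one, DihedralGroup.nat_card, mul_comm 2] at h
        exact Nat.eq_of_mul_eq_mul_left (by omega) h
      haveI := hRn
      have hQR : Qc ≤ R := fun h hh => mem_comap.mpr (by
        show e (QuotientGroup.mk h) ∈ _
        rw [(QuotientGroup.eq_one_iff h).mpr hh, map_one]; exact one_mem _)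
      have hQcen : ∀ a ∈ Qc, ∀ l : ↥H, Commute a l := by
        intro a ha l
        rcases eq_or_ne a 1 with rfl | ha1
        · exact Commute.one_left l
        have hone : ∀ b ∈ Qc, b ≠ 1 → b = a := by
          intro b hb hb1
          by_contra hne
          have hsub : ({1, a, b} : Set ↥H) ⊆ (Qc : Set ↥H) := by
            rintro z (rfl | rfl | rfl)
            exacts [one_mem _, ha, hb]
          have hle := Set.ncard_le_ncard hsub
          rw [Set.ncard_eq_three.mpr ⟨1, a, b, ha1.symm, Ne.symm hb1, Ne.symm hne, rfl⟩,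
            ← Nat.card_coe_set_eq] at hle
          exact absurd (hle.trans (le_of_eq hcardQ)) (by norm_num)
        have := hone _ ((inferInstance : Qc.Normal).conj_mem a ha l)
          (fun e' => ha1 (conj_eq_one_iff.mp e'))
        exact (mul_inv_eq_iff_eq_mul.mp this).symm
      have hRidx : R.index = 2 := by
        rw [hR, index_comap_of_surjective _ hρs]
        have h := (zpowers (DihedralGroup.r 1 : DihedralGroup n)).card_mul_index
        rw [Nat.card_zpowers, DihedralGroup.orderOf_r_one, DihedralGroup.nat_card, mul_comm 2] at h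
        exact Nat.eq_of_mul_eq_mul_left (by omega) h
      have hQRidx : (Qc.subgroupOf R).index = n := by
        have h := relIndex_mul_index hQR
        rw [hQidx, hRidx, mul_comm 2] at h
        exact Nat.eq_of_mul_eq_mul_right two_pos h
      obtain ⟨N, hNc, hNcop, hNsup⟩ := exists_odd_complement (A := Qc.subgroupOf R)
        (Core.pCore_isPGroup.comap_subtype) (by rw [hQRidx]; exact hnodd.not_two_dvd_nat)
        (fun a ha l => Subtype.ext (hQcen a (mem_subgroupOf.mp ha) l).eq)
      haveI := hNc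
      have hNO : N.map R.subtype ≤ O :=
        Core.le_pPrimeCore (by rw [card_map_of_injective R.subtype_injective]; exact hNcop)
      have hle : R ≤ O ⊔ Qc := by
        have h := congrArg (Subgroup.map R.subtype) hNsup
        rw [Subgroup.map_sup, ← MonoidHom.range_eq_map, range_subtype] at h
        rw [← h]
        exact sup_le_sup hNO (map_comap_le _ _)
      -- count
      have h1 := (Pc.map π).card_mul_index
      rw [hπinj Pc le_rfl, hcardPc] at h1
      have h2 : Nat.card (↥H ⧸ O) ≤ 4 := by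
        have h3 : ((O ⊔ Qc).map π).index ∣ 2 := by
          refine (index_map_dvd _ hπs).trans ?_
          rw [← hRidx]
          exact index_dvd_of_le hle
        have h4 : (O ⊔ Qc).map π = Qc.map π := by
          rw [Subgroup.map_sup, (map_eq_bot_iff O).mpr (by rw [QuotientGroup.ker_mk']), bot_sup_eq]
        rw [h4] at h3
        have h5 := (Qc.map π).card_mul_index
        rw [hπinj Qc hQPc, hcardQ] at h5
        have h6 := Nat.le_of_dvd two_pos h3
        rw [← h5]
        norm_num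
        omega
      refine le_antisymm h2 ?_
      rw [← h1]
      exact Nat.le_mul_of_pos_right _ (Nat.pos_of_ne_zero index_ne_zero_of_finite)
    refine klein_of_small hX ?_
    intro a
    obtain ⟨h, rfl⟩ := hπs a
    have htop : Pc.map π = ⊤ := by
      refine eq_top_of_le_card _ ?_
      rw [hπinj Pc le_rfl, hcardPc, hX]
      norm_num
    obtain ⟨k, hk, he⟩ := htop.ge (mem_top (π h))
    rw [← he, ← map_pow]
    have hk2 : k ^ 2 = 1 := Subtype.ext (pow_two_of_mem_J C.ord
      (fun i j h1 h2 h3 h4 => hcom' i j (by omega) (by omega))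
      (show (k : G) ∈ J f 0 2 by
        have hkP : (k : G) ∈ P := mem_subgroupOf.mp hk
        rw [← C.Jp] at hkP
        exact_mod_cast hkP))
    rw [hk2, map_one]
  -- the symmetric cases
  right
  set s := f ((t : ℤ) - 1) with hs
  set s' := f (-1) with hs'
  have hinv : ∀ k, (f k)⁻¹ = f k := fun k => inv_eq_of_mul_eq_one_right (by rw [← pow_two, C.ord])
  have hff : ∀ k, f k * f k = 1 := fun k => by rw [← pow_two, C.ord]
  have hsH : s ∈ H := hmemf _ (by omega) (by omega)
  have hs'H : s' ∈ H := by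
    rw [← C.gen]; exact mem_sup_left (mem_J f le_rfl (by omega))
  have hno := C.no (by omega)
  have hJ1 : ∀ i : ℤ, ∀ z ∈ J f i (i + 1), z = 1 ∨ z = f i := by
    intro i z hz
    rw [J_single] at hz
    obtain ⟨j, rfl⟩ := hz
    rcases Int.even_or_odd j with ⟨m, hm⟩ | ⟨m, hm⟩
    · left
      show f i ^ j = 1
      rw [hm, ← two_mul, zpow_mul, zpow_two, hff, one_zpow]
    · right
      show f i ^ j = f i
      rw [hm, zpow_add, zpow_mul, zpow_two, hff, one_zpow, one_mul, zpow_one]
  have hJ2 : ∀ i : ℤ, 1 < u → ∀ z ∈ J f i (i + 1 + 1),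
      z = 1 ∨ z = f i ∨ z = f (i + 1) ∨ z = f i * f (i + 1) := by
    intro i hu z hz
    have hn' : J f i (i + 1) ≤ normalizer (J f (i + 1) (i + 1 + 1) : Set G) := by
      refine le_trans ?_ (centralizer_le_normalizer _)
      rw [le_centralizer_iff]
      intro a ha
      refine mem_centralizer_iff.mpr fun b hb => ?_
      refine ((commute_of_mem_J (fun k h1 h2 => ?_) hb).eq).symm
      exact (commute_of_mem_J (h := f k) (fun l h3 h4 => hcom' k l (by omega) (by omega)) ha).symm
    rw [← J_sup f (show i ≤ i + 1 by omega) (show i + 1 ≤ i + 1 + 1 by omega), ← SetLike.mem_coe,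
      coe_mul_of_left_le_normalizer_right _ _ hn'] at hz
    obtain ⟨a, ha, b, hb, rfl⟩ := hz
    rcases hJ1 i a ha with rfl | rfl <;> rcases hJ1 (i + 1) b hb with rfl | rfl <;> simp
  have hd : ∀ i j k : ℤ, i ≤ j → j ≤ k → k - i ≤ t → ∀ z, z ∈ J f i j → z ∈ J f j k → z = 1 :=
    fun i j k h1 h2 h3 z hz hz' => mem_bot.mp (C.disj i j k h1 h2 h3 ▸ mem_inf.mpr ⟨hz, hz'⟩)
  obtain ⟨a, b, ha1, hb1, hab, hsa, hsb, hs'a, hs'b, haQ, hbQ, hgenQ, hT⟩ :
      ∃ a b : G, a ≠ 1 ∧ b ≠ 1 ∧ a ≠ b ∧ s * a * s⁻¹ = a * b ∧ s * b * s⁻¹ = b ∧ s' * a * s'⁻¹ = a ∧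
        s' * b * s'⁻¹ = a * b ∧ a ∈ Q ∧ b ∈ Q ∧
        (∀ g ∈ H, Commute g a → Commute g b → g ∈ centralizer (Q : Set G)) ∧
        ((t = 3 ∧ b = f 1) ∨ (t = 4 ∧ a = f 0 * f 1 ∧ b = f 1 * f 2)) := by
    rcases hsmall with ⟨h, -⟩ | ⟨rfl, rfl⟩ | ⟨rfl, rfl⟩
    · exact absurd h ht
    · -- order eight
      have hQ2 : Q = J f 0 (0 + 1 + 1) := by rw [← C.Jq]; norm_num
      have hw : ⁅f 2, f 0⁆ = f 1 := by
        have h := C.rule 0 2 (by norm_num) (by norm_num)
        norm_num at h
        refine (hJ1 1 _ (by norm_num; exact h)).resolve_left fun h1 => ?_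
        exact hno 0 (by norm_num; exact (commutatorElement_eq_one_iff_mul_comm.mp h1).symm)
      have hw' : ⁅f 1, f (-1)⁆ = f 0 := by
        have h := C.rule (-1) 1 (by norm_num) (by norm_num)
        norm_num at h
        refine (hJ1 0 _ (by norm_num; exact h)).resolve_left fun h1 => ?_
        exact hno (-1) (by norm_num; exact (commutatorElement_eq_one_iff_mul_comm.mp h1).symm)
      have hc01 : Commute (f 0) (f 1) := hcom' 0 1 (by norm_num) (by norm_num)
      refine ⟨f 0, f 1, C.ne_one 0, C.ne_one 1, ?_, ?_, ?_, ?_, ?_, ?_, ?_, ?_, Or.inl ⟨rfl, rfl⟩⟩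
      · intro h
        exact C.ne_one 0 (hd 0 1 2 (by norm_num) (by norm_num) (by norm_num) _
          (mem_J f (by norm_num) (by norm_num)) (h ▸ mem_J f (by norm_num) (by norm_num)))
      · rw [hs]; norm_num
        calc f 2 * f 0 * (f 2)⁻¹ = ⁅f 2, f 0⁆ * f 0 := by rw [commutatorElement_def]; group
          _ = f 0 * f 1 := by rw [hw, hc01.eq]
      · rw [hs]; norm_num
        rw [(hcom' 2 1 (by norm_num) (by norm_num)).eq, mul_inv_cancel_right]
      · rw [hs', (hcom' (-1) 0 (by norm_num) (by norm_num)).eq, mul_inv_cancel_right]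
      · rw [hs']
        calc f (-1) * f 1 * (f (-1))⁻¹ = ⁅f 1, f (-1)⁆⁻¹ * f 1 := by rw [commutatorElement_def]; group
          _ = f 0 * f 1 := by rw [hw', hinv]
      · rw [hQ2]; exact mem_J f le_rfl (by norm_num)
      · rw [hQ2]; exact mem_J f (by norm_num) (by norm_num)
      · intro g _ hga hgb
        rw [hQ2]
        refine mem_centralizer_iff.mpr fun z hz => ?_
        refine (commute_of_mem_J (fun k h1 h2 => ?_) hz).eq.symm
        rcases (show k = 0 ∨ k = 1 by omega) with rfl | rfl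
        exacts [hga, hgb]
    · -- order sixteen
      have hQ3 : Q = J f 0 3 := by rw [← C.Jq]; norm_num
      have hc : ∀ i j : ℤ, i - j < 3 → j - i < 3 → Commute (f i) (f j) := fun i j h1 h2 =>
        hcom' i j (by omega) (by omega)
      have hz : ∀ g ∈ H, Commute g (f 1) := by
        intro g hg
        have hle : H ≤ centralizer ({f 1} : Set G) := by
          rw [← C.gen]
          refine sup_le ?_ ?_ <;> refine (closure_le _).mpr ?_ <;>
            rintro _ ⟨l, ⟨hl1, hl2⟩, rfl⟩ <;>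
            exact mem_centralizer_singleton_iff.mpr (hc l 1 (by omega) (by omega)).eq
        exact mem_centralizer_singleton_iff.mp (hle hg)
      set w := ⁅f 3, f 0⁆ with hwdef
      have hwJ : w ∈ J f 1 (1 + 1 + 1) := by
        have h := C.rule 0 3 (by norm_num) (by norm_num)
        norm_num at h ⊢
        exact h
      have hwJ' : ⁅f 2, f (-1)⁆ ∈ J f 0 (0 + 1 + 1) := by
        have h := C.rule (-1) 2 (by norm_num) (by norm_num)
        norm_num at h ⊢
        exact h
      have hnorm : ∀ (m : ℤ) (g : G), (∀ k, m ≤ k → k < m + 2 → g * f k * g⁻¹ ∈ J f m (m + 2)) →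
          g ∈ normalizer (J f m (m + 2) : Set G) := by
        intro m g hg
        rw [mem_normalizer_iff_map_conj_eq]
        refine eq_of_le_of_card_ge ?_ (card_map_of_injective (MulAut.conj g).injective).ge
        rw [map_le_iff_le_comap]
        refine (closure_le _).mpr ?_
        rintro _ ⟨k, ⟨hk1, hk2⟩, rfl⟩
        exact hg k hk1 hk2
      have hgenN : ∀ m : ℤ, (∀ l k : ℤ, -1 ≤ l → l < 4 → m ≤ k → k < m + 2 →
          f l * f k * (f l)⁻¹ ∈ J f m (m + 2)) → H ≤ normalizer (J f m (m + 2) : Set G) := by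
        intro m hm
        rw [← C.gen]
        refine sup_le ?_ ?_ <;> refine (closure_le _).mpr ?_ <;> rintro _ ⟨l, ⟨hl1, hl2⟩, rfl⟩ <;>
          exact hnorm m _ fun k hk1 hk2 => hm l k (by omega) (by omega) hk1 hk2
      have hconj : ∀ l k : ℤ, l - k < 3 → k - l < 3 → f l * f k * (f l)⁻¹ = f k := fun l k h1 h2 => by
        rw [(hc l k h1 h2).eq, mul_inv_cancel_right]
      have hw12 : w = f 1 * f 2 := by
        rcases hJ2 1 (by norm_num) w hwJ with h | h | h | h
        · exact absurd (commutatorElement_eq_one_iff_mul_comm.mp h).symm (by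
            intro e'; exact hno 0 (by norm_num; exact e'))
        · exfalso
          refine C.middle' (by norm_num) ?_
          have := hgenN 0 (fun l k hl1 hl2 hk1 hk2 => ?_)
          · norm_num at this ⊢; exact this
          rcases lt_or_ge (l - k) 3 with h3 | h3
          · rw [hconj l k h3 (by omega)]; exact mem_J f hk1 hk2
          obtain rfl : l = 3 := by omega
          obtain rfl : k = 0 := by omega
          rw [show f 3 * f 0 * (f 3)⁻¹ = w * f 0 by rw [hwdef, commutatorElement_def]; group, h]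
          exact mul_mem (mem_J f (by norm_num) (by norm_num)) (mem_J f le_rfl (by norm_num))
        · exfalso
          refine C.middle (by norm_num) ?_
          -- the shifted commutator
          have hsh : ⁅f 2, f (-1)⁆ = f 1 := by
            obtain ⟨φ, hφ⟩ := C.shift
            apply φ.injective
            rw [map_commutatorElement, hφ, hφ, hφ]
            norm_num
            exact h
          have := hgenN 1 (fun l k hl1 hl2 hk1 hk2 => ?_)
          · norm_num at this ⊢; exact this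
          rcases lt_or_ge (k - l) 3 with h3 | h3
          · rw [hconj l k (by omega) h3]; exact mem_J f hk1 hk2
          obtain rfl : l = -1 := by omega
          obtain rfl : k = 2 := by omega
          rw [show f (-1) * f 2 * (f (-1))⁻¹ = ⁅f 2, f (-1)⁆⁻¹ * f 2 by
            rw [commutatorElement_def]; group, hsh]
          exact mul_mem (inv_mem (mem_J f le_rfl (by norm_num))) (mem_J f (by norm_num) (by norm_num))
        · norm_num at h; exact h
      have hw' : ⁅f 2, f (-1)⁆ = f 0 * f 1 := by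
        obtain ⟨φ, hφ⟩ := C.shift
        apply φ.injective
        rw [map_commutatorElement, map_mul, hφ, hφ, hφ, hφ]
        norm_num
        exact hw12
      have h12 : Commute (f 1) (f 2) := hc 1 2 (by norm_num) (by norm_num)
      have h01 : Commute (f 0) (f 1) := hc 0 1 (by norm_num) (by norm_num)
      have h02 : Commute (f 0) (f 2) := hc 0 2 (by norm_num) (by norm_num)
      have hprod : f 0 * f 1 * (f 1 * f 2) = f 0 * f 2 := by
        rw [mul_assoc, ← mul_assoc (f 1), hff, one_mul]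
      refine ⟨f 0 * f 1, f 1 * f 2, ?_, ?_, ?_, ?_, ?_, ?_, ?_, ?_, ?_, ?_, Or.inr ⟨rfl, rfl, rfl⟩⟩
      · intro h
        have he : f 0 = f 1 := (eq_inv_of_mul_eq_one_left h).trans (hinv 1)
        exact C.ne_one 0 (hd 0 1 2 (by norm_num) (by norm_num) (by norm_num) _
          (mem_J f (by norm_num) (by norm_num)) (he ▸ mem_J f (by norm_num) (by norm_num)))
      · intro h
        have he : f 1 = f 2 := (eq_inv_of_mul_eq_one_left h).trans (hinv 2)
        exact C.ne_one 1 (hd 1 2 3 (by norm_num) (by norm_num) (by norm_num) _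
          (mem_J f (by norm_num) (by norm_num)) (he ▸ mem_J f (by norm_num) (by norm_num)))
      · intro h
        rw [h01.eq] at h
        have he : f 0 = f 2 := mul_left_cancel h
        exact C.ne_one 0 (hd 0 1 3 (by norm_num) (by norm_num) (by norm_num) _
          (mem_J f (by norm_num) (by norm_num)) (he ▸ mem_J f (by norm_num) (by norm_num)))
      · rw [hs, hprod]; norm_num
        calc f 3 * (f 0 * f 1) * (f 3)⁻¹ = w * f 0 * (f 3 * f 1 * (f 3)⁻¹) := by
              rw [hwdef, commutatorElement_def]; group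
          _ = f 1 * f 2 * f 0 * f 1 := by rw [hconj 3 1 (by norm_num) (by norm_num), hw12]
          _ = f 0 * (f 1 * (f 1 * f 2)) := by
              rw [mul_assoc (f 1) (f 2), ← h02.eq, mul_assoc, mul_assoc (f 0), ← h12.eq,
                ← mul_assoc (f 1), ← h01.eq, mul_assoc (f 0)]
          _ = f 0 * f 2 := by rw [← mul_assoc (f 1), hff, one_mul]
      · rw [hs]; norm_num
        calc f 3 * (f 1 * f 2) * (f 3)⁻¹ = f 3 * f 1 * (f 3)⁻¹ * (f 3 * f 2 * (f 3)⁻¹) := by group
          _ = f 1 * f 2 := by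
              rw [hconj 3 1 (by norm_num) (by norm_num), hconj 3 2 (by norm_num) (by norm_num)]
      · rw [hs']
        calc f (-1) * (f 0 * f 1) * (f (-1))⁻¹
            = f (-1) * f 0 * (f (-1))⁻¹ * (f (-1) * f 1 * (f (-1))⁻¹) := by group
          _ = f 0 * f 1 := by
              rw [hconj (-1) 0 (by norm_num) (by norm_num), hconj (-1) 1 (by norm_num) (by norm_num)]
      · rw [hs', hprod]
        calc f (-1) * (f 1 * f 2) * (f (-1))⁻¹
            = f (-1) * f 1 * (f (-1))⁻¹ * (⁅f 2, f (-1)⁆⁻¹ * f 2) := by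
              rw [commutatorElement_def]; group
          _ = f 1 * ((f 1)⁻¹ * (f 0)⁻¹ * f 2) := by
              rw [hconj (-1) 1 (by norm_num) (by norm_num), hw', mul_inv_rev]
          _ = f 0 * f 2 := by rw [hinv, hinv, ← mul_assoc, ← mul_assoc, hff, one_mul]
      · rw [hQ3]; exact mul_mem (mem_J f le_rfl (by norm_num)) (mem_J f (by norm_num) (by norm_num))
      · rw [hQ3]; exact mul_mem (mem_J f (by norm_num) (by norm_num)) (mem_J f (by norm_num) (by norm_num))
      · intro g hg hga hgb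
        rw [hQ3]
        refine mem_centralizer_iff.mpr fun z hz' => ?_
        refine (commute_of_mem_J (fun k h1 h2 => ?_) hz').eq.symm
        rcases (show k = 0 ∨ k = 1 ∨ k = 2 by omega) with rfl | rfl | rfl
        · have h := hga.mul_right (hz g hg)
          rwa [mul_assoc, hff, mul_one] at h
        · exact hz g hg
        · have h := (hz g hg).mul_right hgb
          rwa [← mul_assoc, hff, one_mul] at h
  set c := a * b with hc
  have hQcomm : ∀ z ∈ Q, ∀ z' ∈ Q, Commute z z' := by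
    intro z hz z' hz'
    rw [← C.Jq] at hz hz'
    exact commute_of_mem_J (fun k h1 h2 => (commute_of_mem_J (h := f k)
      (fun l h3 h4 => hcom' k l (by omega) (by omega)) hz).symm) hz'
  have hcne : c ≠ 1 ∧ c ≠ a ∧ c ≠ b := by
    refine ⟨fun h => hab ?_, fun h => hb1 (mul_eq_left.mp h), fun h => ha1 (mul_eq_right.mp h)⟩
    have hb2 : b ^ 2 = 1 := pow_two_of_mem_J C.ord
      (fun i j h1 h2 h3 h4 => hcom' i j (by omega) (by omega)) (show b ∈ J f 0 ((t : ℤ) - 1) by
        rw [C.Jq]; exact hbQ)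
    exact (eq_inv_of_mul_eq_one_left h).trans (inv_eq_of_mul_eq_one_right (by rw [← pow_two, hb2]))
  set T3 : Set G := {a, b, c} with hT3
  have hcQ : c ∈ Q := mul_mem haQ hbQ
  have hT3Q : ∀ z ∈ T3, z ∈ Q := by
    rintro z (rfl | rfl | rfl)
    exacts [haQ, hbQ, hcQ]
  have hQfix : ∀ g ∈ Q, g ∈ normalizer T3 := fun g hg =>
    centralizer_le_normalizer _ (mem_centralizer_iff.mpr fun z hz => (hQcomm z (hT3Q z hz) g hg).eq)
  have hsN : s ∈ normalizer T3 := swap_pair_normalizer (hff _) hsa hsb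
  have hs'N : s' ∈ normalizer T3 := by
    have h := swap_pair_normalizer (a := b) (b := a) (c := c) (hff _) hs'b hs'a
    rwa [show ({b, a, c} : Set G) = T3 from Set.insert_comm b a {c}] at h
  have hHN : H ≤ normalizer T3 := by
    rw [← C.gen]
    refine sup_le ?_ ?_ <;> refine (closure_le _).mpr ?_ <;> rintro _ ⟨l, ⟨hl1, hl2⟩, rfl⟩
    · rcases eq_or_lt_of_le hl1 with e' | hl
      · rw [← e']; exact hs'N
      · exact hQfix _ (C.Jq ▸ mem_J f (by omega) hl2)
    · rcases lt_or_ge l ((t : ℤ) - 1) with hl | hl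
      · exact hQfix _ (C.Jq ▸ mem_J f hl1 hl)
      · rw [show l = (t : ℤ) - 1 by omega]; exact hsN
  -- the action on the three involutions
  let κ : ↥H →* Equiv.Perm ↥T3 :=
    { toFun := fun h => (MulAut.conj (h : G)).toEquiv.subtypeEquiv
        (fun z => mem_set_normalizer_iff.mp (hHN h.2) z)
      map_one' := by
        refine Equiv.ext fun z => Subtype.ext ?_
        show ((1 : ↥H) : G) * z * ((1 : ↥H) : G)⁻¹ = z
        simp
      map_mul' := fun h h' => by
        refine Equiv.ext fun z => Subtype.ext ?_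
        show ((h * h' : ↥H) : G) * z * ((h * h' : ↥H) : G)⁻¹ = h * (h' * z * (h' : G)⁻¹) * (h : G)⁻¹
        rw [Subgroup.coe_mul]; group }
  have hκ : ∀ (h : ↥H) (z : T3), ((κ h z : T3) : G) = h * z * (h : G)⁻¹ := fun _ _ => rfl
  have hker : ∀ h : ↥H, κ h = 1 ↔ (h : G) ∈ centralizer (Q : Set G) := by
    intro h
    constructor
    · intro e'
      refine hgenQ h h.2 ?_ ?_ <;> refine mul_inv_eq_iff_eq_mul.mp ?_
      · exact (hκ h ⟨a, Or.inl rfl⟩).symm.trans (by rw [e']; rfl)
      · exact (hκ h ⟨b, Or.inr (Or.inl rfl)⟩).symm.trans (by rw [e']; rfl)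
    · intro hh
      refine Equiv.ext fun z => Subtype.ext ?_
      rw [hκ, ← mem_centralizer_iff.mp hh z (hT3Q z z.2), mul_inv_cancel_right]
      rfl
  set σ := κ ⟨s, hsH⟩ with hσ
  set σ' := κ ⟨s', hs'H⟩ with hσ'
  have hσb : σ ⟨b, Or.inr (Or.inl rfl)⟩ = ⟨b, Or.inr (Or.inl rfl)⟩ := Subtype.ext hsb
  have hσne : σ ≠ 1 := fun e' => hcne.2.1 (by
    rw [← hsa]
    exact (hκ ⟨s, hsH⟩ ⟨a, Or.inl rfl⟩).symm.trans (by rw [← hσ, e']; rfl))
  have hσ'ne : σ' ≠ 1 := fun e' => hcne.2.2 (by
    rw [← hs'b]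
    exact (hκ ⟨s', hs'H⟩ ⟨b, Or.inr (Or.inl rfl)⟩).symm.trans (by rw [← hσ', e']; rfl))
  have hσσ' : σ ≠ σ' := fun e' => hcne.2.1 (by
    rw [← hsa]
    exact (hκ ⟨s, hsH⟩ ⟨a, Or.inl rfl⟩).symm.trans (by rw [← hσ, e', hσ']; exact hs'a))
  have hcard3 : Nat.card ↥T3 = 3 := by
    rw [Nat.card_coe_set_eq, hT3, Set.ncard_eq_three]
    exact ⟨a, b, c, hab, hcne.2.1.symm, hcne.2.2.symm, rfl⟩
  obtain ⟨e3⟩ : Nonempty (↥T3 ≃ Fin 3) := ⟨Finite.equivFinOfCardEq hcard3⟩
  have hκs : Function.Surjective κ := by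
    rw [← MonoidHom.range_eq_top]
    refine eq_top_of_le_card _ ?_
    rw [Nat.card_perm, hcard3]
    show 6 ≤ Nat.card κ.range
    have hd2 : 2 ∣ Nat.card κ.range := by
      have ho : orderOf σ = 2 := orderOf_eq_prime (by
        rw [hσ, ← map_pow, show (⟨s, hsH⟩ : ↥H) ^ 2 = 1 from Subtype.ext (C.ord _), map_one]) hσne
      exact ho ▸ Subgroup.orderOf_dvd_natCard κ.range ⟨_, rfl⟩
    have hd6 : Nat.card κ.range ∣ 6 := by
      have h := card_subgroup_dvd_card κ.range
      rw [Nat.card_perm, hcard3] at h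
      exact h
    have h3 : 3 ≤ Nat.card κ.range := by
      have hsub : ({1, σ, σ'} : Set (Equiv.Perm ↥T3)) ⊆ (κ.range : Set (Equiv.Perm ↥T3)) := by
        rintro z (rfl | rfl | rfl)
        exacts [one_mem _, ⟨_, rfl⟩, ⟨_, rfl⟩]
      have hle := Set.ncard_le_ncard hsub (Set.toFinite _)
      rwa [Set.ncard_eq_three.mpr ⟨1, σ, σ', hσne.symm, hσ'ne.symm, hσσ', rfl⟩,
        ← Nat.card_coe_set_eq] at hle
    have := Nat.le_of_dvd (by norm_num) hd6
    obtain ⟨m, hm⟩ := hd2
    interval_cases h : Nat.card κ.range <;> first | omega | norm_num at hd6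
  -- the kernel
  have hrel : (Qc.subgroupOf Pc).index = 2 := by
    have h := card_mul_index (Qc.subgroupOf Pc)
    rw [Nat.card_congr (subgroupOfEquivOfLe hQPc).toEquiv, hcardQ, hcardPc,
      show 2 ^ t = 2 ^ (t - 1) * 2 by rw [← pow_succ]; congr 1; omega] at h
    exact Nat.eq_of_mul_eq_mul_left (pow_pos two_pos _) h
  have hsPc : (⟨s, hsH⟩ : ↥H) ∈ Pc := mem_subgroupOf.mpr (C.Jp ▸ mem_J f (by omega) (by omega))
  have hQker : Qc ≤ κ.ker := fun h hh => (hker h).mpr (mem_centralizer_iff.mpr fun z hz =>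
    (hQcomm z hz h ((hmemQ h).mp hh)).eq)
  have hsQc : (⟨s, hsH⟩ : ↥H) ∉ Qc := fun h => hσne (hQker h)
  have hkerP : ∀ h ∈ Pc, h ∈ κ.ker → h ∈ Qc := by
    intro h hh hk
    by_contra hnot
    have h1 : (⟨h, hh⟩ : Pc) * ⟨_, hsPc⟩ ∈ Qc.subgroupOf Pc :=
      (Subgroup.mul_mem_iff_of_index_two hrel).mpr
        ⟨fun h' => absurd (mem_subgroupOf.mp h') hnot, fun h' => absurd (mem_subgroupOf.mp h') hsQc⟩
    have h2 : κ (h * ⟨s, hsH⟩) = 1 := hQker (mem_subgroupOf.mp h1)
    rw [map_mul, (MonoidHom.mem_ker.mp hk), one_mul] at h2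
    exact hσne h2
  have hOQ : ∀ o ∈ O, ∀ q ∈ Qc, o * q = q * o := by
    intro o ho q hq
    refine (Subgroup.commute_of_normal_of_disjoint Qc O inferInstance inferInstance ?_ q o hq ho).symm.eq
    rw [disjoint_iff]
    exact eq_bot_iff.mpr fun z hz => mem_bot.mpr (hPO z (hQPc hz.1) hz.2)
  have hOker : O ≤ κ.ker := fun o ho => (hker o).mpr (mem_centralizer_iff.mpr fun z hz => by
    obtain ⟨q, hq, rfl⟩ : z ∈ Qc.map H.subtype := by rw [← hQ]; exact hz
    exact congrArg Subtype.val (hOQ o ho q hq).symm)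
  have hkerQO : κ.ker = Qc ⊔ O := by
    refine le_antisymm ?_ (sup_le hQker hOker)
    have h6 : κ.ker.index = 6 := by
      rw [index_ker, MonoidHom.range_eq_top.mpr hκs, card_top, Nat.card_perm, hcard3]; rfl
    have hodd : ¬ 2 ∣ (Qc.subgroupOf κ.ker).index := by
      intro h2
      have h := relIndex_mul_index hQker
      rw [h6, hQidx] at h
      have h4 : 4 ∣ 2 * n := h ▸ Nat.mul_dvd_mul h2 (by norm_num : 2 ∣ 6)
      obtain ⟨m, hm⟩ := hnodd
      omega
    obtain ⟨N, hNc, hNcop, hNsup⟩ := exists_odd_complement (A := Qc.subgroupOf κ.ker)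
      (Core.pCore_isPGroup.comap_subtype) hodd (fun q hq l => Subtype.ext (Subtype.ext
        (mem_centralizer_iff.mp ((hker l).mp l.2) _ ((hmemQ q).mp (mem_subgroupOf.mp hq)))))
    haveI := hNc
    have hNO : N.map κ.ker.subtype ≤ O :=
      Core.le_pPrimeCore (by rw [card_map_of_injective κ.ker.subtype_injective]; exact hNcop)
    have h := congrArg (Subgroup.map κ.ker.subtype) hNsup
    rw [Subgroup.map_sup, ← MonoidHom.range_eq_map, range_subtype] at h
    rw [← h, sup_comm Qc]
    exact sup_le_sup hNO (map_comap_le _ _)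
  have hmapker : κ.ker.map π = Qc.map π := by
    rw [hkerQO, Subgroup.map_sup, (map_eq_bot_iff O).mpr (by rw [QuotientGroup.ker_mk']), sup_bot_eq]
  set ψ := QuotientGroup.lift O κ hOker with hψ
  have hψk : ψ.ker = Qc.map π := by
    rw [← hmapker, hψ, QuotientGroup.ker_lift]
  have hψs : Function.Surjective ψ := fun z => by
    obtain ⟨h, rfl⟩ := hκs z
    exact ⟨π h, rfl⟩
  -- the 2-core
  have hPidx : ¬ 2 ∣ (Pc.map π).index := fun h2 => hPsyl (h2.trans (index_map_dvd _ hπs))
  set P'c := (J f (-1) ((t : ℤ) - 1)).subgroupOf H with hP'c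
  have hP'H : J f (-1) ((t : ℤ) - 1) ≤ H := C.gen ▸ le_sup_left
  have hcardP'c : Nat.card P'c = 2 ^ t := by
    rw [hP'c, Nat.card_congr (subgroupOfEquivOfLe hP'H).toEquiv,
      show (t : ℤ) - 1 = -1 + (t : ℤ) by ring]
    exact C.card_J (-1) t le_rfl
  have hP'idx : ¬ 2 ∣ (P'c.map π).index := fun h2 => hPsyl (by
    have h3 := h2.trans (index_map_dvd _ hπs)
    have e1 := Pc.card_mul_index
    have e2 := P'c.card_mul_index
    rw [hcardPc, ← e2, hcardP'c] at e1
    rwa [← Nat.eq_of_mul_eq_mul_left (pow_pos two_pos _) e1] at h3)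
  have hP'p : IsPGroup 2 P'c := IsPGroup.of_card hcardP'c
  have hcoreX : Cfsg.pCore 2 (↥H ⧸ O) = Qc.map π := by
    haveI : (Qc.map π).Normal := Normal.map inferInstance π hπs
    refine le_antisymm (fun z hz => ?_) (Core.le_pCore (Core.pCore_isPGroup.map π))
    obtain ⟨p, hp, rfl⟩ := Core.pCore_le_sylow ((hPcp.map π).toSylow hPidx) hz
    obtain ⟨p', hp', he⟩ := Core.pCore_le_sylow ((hP'p.map π).toSylow hP'idx) hz
    have h1 : κ p' = κ p := congrArg ψ he
    -- images in the two transposition groups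
    have hp2 : κ p = 1 ∨ κ p = σ := by
      by_cases hk : p ∈ Qc
      · exact Or.inl (hQker hk)
      have h2 : (⟨p, hp⟩ : Pc) * ⟨_, hsPc⟩ ∈ Qc.subgroupOf Pc :=
        (Subgroup.mul_mem_iff_of_index_two hrel).mpr
          ⟨fun h' => absurd (mem_subgroupOf.mp h') hk, fun h' => absurd (mem_subgroupOf.mp h') hsQc⟩
      have h3 : κ (p * ⟨s, hsH⟩) = 1 := hQker (mem_subgroupOf.mp h2)
      rw [map_mul, ← hσ] at h3
      refine Or.inr ((mul_eq_one_iff_eq_inv.mp h3).trans ?_)
      rw [hσ, ← map_inv]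
      exact congrArg κ (Subtype.ext (hinv _))
    have hp3 : κ p' = 1 ∨ κ p' = σ' := by
      have hle : J f (-1) ((t : ℤ) - 1) ≤
          ((zpowers σ').comap κ).map H.subtype := by
        refine (closure_le _).mpr ?_
        rintro _ ⟨l, ⟨hl1, hl2⟩, rfl⟩
        rcases eq_or_lt_of_le hl1 with e' | hl
        · rw [← e']; exact ⟨⟨s', hs'H⟩, mem_zpowers _, rfl⟩
        · have hlQ : f l ∈ Q := C.Jq ▸ mem_J f (by omega) hl2
          refine ⟨⟨f l, hmemf l (by omega) (by omega)⟩, ?_, rfl⟩
          show κ _ ∈ zpowers σ'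
          rw [MonoidHom.mem_ker.mp (hQker ((hmemQ _).mpr hlQ))]
          exact one_mem _
      obtain ⟨w, hw, hwe⟩ := hle (mem_subgroupOf.mp hp')
      rw [← Subtype.ext hwe]
      obtain ⟨i, hi⟩ := hw
      have hσ'2 : σ' * σ' = 1 := by
        rw [hσ', ← map_mul, show (⟨s', hs'H⟩ : ↥H) * ⟨s', hs'H⟩ = 1 from Subtype.ext (hff _), map_one]
      rcases Int.even_or_odd i with ⟨m, hm⟩ | ⟨m, hm⟩
      · refine Or.inl (hi.symm.trans ?_)
        show σ' ^ i = 1
        rw [hm, ← two_mul, zpow_mul, zpow_two, hσ'2, one_zpow]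
      · refine Or.inr (hi.symm.trans ?_)
        show σ' ^ i = σ'
        rw [hm, zpow_add, zpow_mul, zpow_two, hσ'2, one_zpow, one_mul, zpow_one]
    have hp1 : κ p = 1 := by
      rcases hp2 with h | h
      · exact h
      rcases hp3 with h' | h'
      · exact h1.symm.trans h'
      · exact absurd (h.symm.trans (h1.symm.trans h')) hσσ'
    exact mem_map_of_mem π (hkerP p hp hp1)
  set X := ↥H ⧸ O
  have hXQ : ∀ q ∈ Cfsg.pCore 2 X, q * q = 1 := by
    rw [hcoreX]
    rintro _ ⟨q, hq, rfl⟩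
    rw [← map_mul, show q * q = 1 from Subtype.ext ?_, map_one]
    rw [Subgroup.coe_mul, ← pow_two]
    refine pow_two_of_mem_J C.ord (a := 0) (b := (t : ℤ) - 1)
      (fun i j h1 h2 h3 h4 => hcom' i j (by omega) (by omega)) ?_
    rw [C.Jq]; exact (hmemQ q).mp hq
  have hXch : centralizer (Cfsg.pCore 2 X : Set X) ≤ Cfsg.pCore 2 X := by
    rw [hcoreX]
    intro z hz
    obtain ⟨h, rfl⟩ := hπs z
    rw [← hmapker]
    refine mem_map_of_mem π ((hker h).mpr (mem_centralizer_iff.mpr fun w hw => ?_))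
    obtain ⟨q, hq, rfl⟩ : w ∈ Qc.map H.subtype := by rw [← hQ]; exact hw
    have h1 := mem_centralizer_iff.mp hz (π q) (mem_map_of_mem π hq)
    have h2 : q * h * q⁻¹ * h⁻¹ ∈ O := by
      refine (QuotientGroup.eq_one_iff _).mp ?_
      show π (q * h * q⁻¹ * h⁻¹) = 1
      rw [map_mul, map_mul, map_mul, map_inv, map_inv, h1, mul_inv_cancel_right, mul_inv_cancel]
    have h3 : q * h * q⁻¹ * h⁻¹ ∈ Qc := by
      rw [show q * h * q⁻¹ * h⁻¹ = q * (h * q⁻¹ * h⁻¹) by group]
      exact mul_mem hq ((inferInstance : Qc.Normal).conj_mem _ (inv_mem hq) h)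
    have h4 := congrArg Subtype.val (hPO _ (hQPc h3) h2)
    have h5 : q * h = h * q := by
      have h6 : q * h * q⁻¹ * h⁻¹ = 1 := Subtype.ext h4
      exact mul_inv_eq_iff_eq_mul.mp (mul_inv_eq_one.mp h6)
    exact congrArg Subtype.val h5
  haveI : ψ.ker.Normal := inferInstance
  let eX : X ⧸ Cfsg.pCore 2 X ≃* Equiv.Perm (Fin 3) :=
    ((QuotientGroup.quotientMulEquivOfEq (hcoreX.trans hψk.symm)).trans
      (QuotientGroup.quotientKerEquivOfSurjective ψ hψs)).trans e3.permCongrHom
  have hTidx : (Pc.map π).index = 3 := by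
    have e1 := (Pc.map π).card_mul_index
    have e2 := (Qc.map π).card_mul_index
    have e6 : (Qc.map π).index = 6 := by
      rw [← hψk, index_ker, MonoidHom.range_eq_top.mpr hψs, card_top, Nat.card_perm, hcard3]; rfl
    rw [hπinj Pc le_rfl, hcardPc, ← e2, hπinj Qc hQPc, hcardQ, e6,
      show 2 ^ t = 2 ^ (t - 1) * 2 by rw [← pow_succ]; congr 1; omega, mul_assoc] at e1
    have := Nat.eq_of_mul_eq_mul_left (pow_pos two_pos _) e1
    omega
  rcases hT with ⟨rfl, -⟩ | ⟨rfl, ha, hb⟩
  · left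
    refine (S4Amal.iso_s4 eX hXQ hXch (D := ⊥) bot_le bot_le ?_ (Pc.map π) (Pc.map π) hTidx bot_le
      le_rfl (fun z hz => mul_mem hz hz) (inf_bot_eq _)).1 card_bot
    rw [hcoreX, hπinj Qc hQPc, hcardQ, card_bot]; norm_num
  · right
    have hf1Q : f 1 ∈ Q := C.Jq ▸ mem_J f (by norm_num) (by norm_num)
    have hf1H : f 1 ∈ H := hmemf 1 (by norm_num) (by norm_num)
    have hmemQ' : ∀ v ∈ Q, v ∈ H := fun v hv => by
      rw [hQ] at hv; exact map_subtype_le _ hv
    have hbH : b ∈ H := hmemQ' b hbQ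
    set d : ↥H := ⟨f 1, hf1H⟩ with hddef
    set bb : ↥H := ⟨b, hbH⟩ with hbb
    have hdQ : d ∈ Qc := (hmemQ _).mpr hf1Q
    have hbQc : bb ∈ Qc := (hmemQ _).mpr hbQ
    have hord2 : ∀ z ∈ Qc, z ≠ 1 → orderOf (π z) = 2 := by
      intro z hz hz1
      refine orderOf_eq_prime ?_ fun e' => hz1 (hPO z (hQPc hz) ((QuotientGroup.eq_one_iff z).mp e'))
      rw [pow_two]
      exact hXQ _ (hcoreX ▸ mem_map_of_mem π hz)
    have hd1 : d ≠ 1 := fun e' => C.ne_one 1 (congrArg Subtype.val e')
    have hbne : bb ≠ 1 := fun e' => hb1 (congrArg Subtype.val e')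
    have hdc : ∀ g : ↥H, Commute d g := by
      intro g
      have hle : H ≤ centralizer ({f 1} : Set G) := by
        rw [← C.gen]
        refine sup_le ?_ ?_ <;> refine (closure_le _).mpr ?_ <;>
          rintro _ ⟨l, ⟨hl1, hl2⟩, rfl⟩ <;>
          exact mem_centralizer_singleton_iff.mpr (hcom' l 1 (by omega) (by omega)).eq
      exact Subtype.ext (mem_centralizer_singleton_iff.mp (hle g.2)).symm
    have hDle : zpowers (π d) ≤ Cfsg.pCore 2 X := by
      rw [hcoreX, zpowers_le]; exact mem_map_of_mem π hdQ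
    have hDcard : Nat.card (zpowers (π d)) = 2 := by rw [Nat.card_zpowers, hord2 d hdQ hd1]
    have hDc : zpowers (π d) ≤ center X := by
      rw [zpowers_le, mem_center_iff]
      intro z
      obtain ⟨g, rfl⟩ := hπs z
      rw [← map_mul, ← map_mul, (hdc g).eq]
    have hsq : ∀ z ∈ Pc.map π, z * z ∈ zpowers (π bb) := by
      have hQ2 : ∀ z ∈ Q, z * z = 1 := fun z hz => by
        rw [← pow_two]
        exact pow_two_of_mem_J C.ord (a := 0) (b := ((4 : ℕ) : ℤ) - 1)
          (fun i j h1 h2 h3 h4 => hcom' i j (by omega) (by omega)) (C.Jq.symm ▸ hz)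
      have hprod : ∀ z ∈ Q, z * (s * z * s⁻¹) ∈ zpowers b := by
        intro z hz
        rw [← C.Jq] at hz
        induction hz using closure_induction with
        | mem w hw =>
          obtain ⟨k, ⟨hk1, hk2⟩, rfl⟩ := hw
          rcases eq_or_lt_of_le hk1 with e' | hk
          · subst e'
            have hs1 : s * f 1 * s⁻¹ = f 1 := by
              rw [hs, (hcom' _ 1 (by omega) (by omega)).eq, mul_inv_cancel_right]
            have e0 : f 0 = a * f 1 := by rw [ha, mul_assoc, hff, mul_one]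
            have hf1b : Commute (f 1) b := hQcomm _ hf1Q _ hbQ
            rw [e0, show s * (a * f 1) * s⁻¹ = s * a * s⁻¹ * (s * f 1 * s⁻¹) by group, hsa, hs1]
            have e1 : a * f 1 * (a * b * f 1) = b := by
              calc a * f 1 * (a * b * f 1) = a * (f 1 * a) * (b * f 1) := by group
                _ = a * a * (f 1 * (f 1 * b)) := by
                    rw [(hQcomm _ hf1Q a haQ).eq, ← hf1b.eq]; group
                _ = b := by rw [hQ2 a haQ, ← mul_assoc (f 1), hff, one_mul, one_mul]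
            rw [e1]
            exact mem_zpowers b
          · rw [hs, (hcom' _ k (by omega) (by omega)).eq, mul_inv_cancel_right, hff]
            exact one_mem _
        | one => simp
        | mul v w hv hw hv' hw' =>
          have hvQ : v ∈ Q := C.Jq ▸ hv
          have hwQ : w ∈ Q := C.Jq ▸ hw
          have hsv : s * v * s⁻¹ ∈ Q := (hmemQ _).mp ((inferInstance : Qc.Normal).conj_mem
            ⟨v, hmemQ' v hvQ⟩ ((hmemQ _).mpr hvQ) ⟨s, hsH⟩)
          rw [show v * w * (s * (v * w) * s⁻¹) = v * (w * (s * v * s⁻¹)) * (s * w * s⁻¹) by group,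
            (hQcomm w hwQ _ hsv).eq, show v * (s * v * s⁻¹ * w) * (s * w * s⁻¹) =
              (v * (s * v * s⁻¹)) * (w * (s * w * s⁻¹)) by group]
          exact mul_mem hv' hw'
        | inv v hv hv' =>
          rwa [inv_eq_of_mul_eq_one_right (hQ2 v (C.Jq ▸ hv))]
      rintro _ ⟨p, hp, rfl⟩
      rw [← map_mul, ← MonoidHom.map_zpowers]
      refine mem_map_of_mem π ?_
      have hbsub : ∀ g : ↥H, (g : G) ∈ zpowers b → g ∈ zpowers bb := by
        rintro g ⟨i, hi⟩
        exact ⟨i, Subtype.ext ((SubgroupClass.coe_zpow bb i).trans hi)⟩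
      refine hbsub _ ?_
      rw [Subgroup.coe_mul]
      by_cases hpQ : p ∈ Qc
      · rw [hQ2 _ ((hmemQ p).mp hpQ)]; exact one_mem _
      have h1 : (⟨p, hp⟩ : Pc) * ⟨_, hsPc⟩ ∈ Qc.subgroupOf Pc :=
        (Subgroup.mul_mem_iff_of_index_two hrel).mpr
          ⟨fun h' => absurd (mem_subgroupOf.mp h') hpQ, fun h' => absurd (mem_subgroupOf.mp h') hsQc⟩
      have h2 : (p : G) * s ∈ Q := (hmemQ _).mp (mem_subgroupOf.mp h1)
      have h3 := hprod _ h2
      have e1 : (p : G) * s * (s * ((p : G) * s) * s⁻¹) = (p : G) * p := by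
        calc (p : G) * s * (s * ((p : G) * s) * s⁻¹) = (p : G) * (s * s) * p := by group
          _ = _ := by rw [hs, hff, mul_one]
      rwa [e1] at h3
    have hRD : zpowers (π bb) ⊓ zpowers (π d) = ⊥ := by
      rw [eq_bot_iff]
      intro z hz
      obtain ⟨h1, h2⟩ := mem_inf.mp hz
      have key : ∀ (w : X), orderOf w = 2 → ∀ x ∈ zpowers w, x = 1 ∨ x = w := by
        intro w hw x hx
        obtain ⟨i, rfl⟩ := hx
        have hw2 : w * w = 1 := by rw [← pow_two, ← hw, pow_orderOf_eq_one]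
        rcases Int.even_or_odd i with ⟨m, hm⟩ | ⟨m, hm⟩
        · exact Or.inl (by show w ^ i = 1; rw [hm, ← two_mul, zpow_mul, zpow_two, hw2, one_zpow])
        · refine Or.inr ?_
          show w ^ i = w
          rw [hm, zpow_add, zpow_mul, zpow_two, hw2, one_zpow, one_mul, zpow_one]
      rcases key _ (hord2 bb hbQc hbne) z h1 with rfl | rfl
      · exact one_mem _
      rcases key _ (hord2 d hdQ hd1) _ h2 with e' | e'
      · exact mem_bot.mpr e'
      · exfalso
        have h3 : bb * d⁻¹ ∈ O := (QuotientGroup.eq_one_iff _).mp (by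
          show π (bb * d⁻¹) = 1
          rw [map_mul, map_inv, e', mul_inv_cancel])
        have h4 := hPO _ (hQPc (mul_mem hbQc (inv_mem hdQ))) h3
        have h5 : f 1 * f 2 = f 1 := by
          rw [← hb]; exact congrArg Subtype.val (mul_inv_eq_one.mp h4)
        exact C.ne_one 2 (mul_eq_left.mp h5)
    obtain ⟨e4⟩ := (S4Amal.iso_s4 eX hXQ hXch (D := zpowers (π d)) hDle hDc
      (by rw [hcoreX, hπinj Qc hQPc, hcardQ, hDcard]; norm_num) (Pc.map π) (zpowers (π bb)) hTidx
      (by rw [zpowers_le]; exact mem_map_of_mem π (hQPc hdQ))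
      (by rw [zpowers_le]; exact mem_map_of_mem π (hQPc hbQc)) hsq hRD).2 hDcard
    exact ⟨e4.trans MulEquiv.prodComm⟩

end Cfsg.Agent.SimsChain
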