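import Cfsg.Agent.SimsChain.Dihedral

/-!
The bound `|P| ≤ 16`.
-/

set_option autoImplicit false
set_option linter.unusedSectionVars false
set_option linter.style.haveILetI false

namespace Cfsg.Agent.SimsChain

open Subgroup
open scoped commutatorElement Pointwise

variable {G : Type*} [Group G] [Finite G]

theorem conj_map_map (a b : G) (K : Subgroup G) :
    (K.map (MulAut.conj b).toMonoidHom).map (MulAut.conj a).toMonoidHom =
      K.map (MulAut.conj (a * b)).toMonoidHom := by
  rw [map_map]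
  congr 1
  ext z
  simp [mul_assoc]

theorem conj_map_one (K : Subgroup G) : K.map (MulAut.conj (1 : G)).toMonoidHom = K := by
  convert map_id K using 2
  ext z
  simp

theorem pow_two_of_mem_J {x : ℤ → G} (hord : ∀ k, x k ^ 2 = 1) {a b : ℤ}
    (hc : ∀ i j, a ≤ i → i < b → a ≤ j → j < b → Commute (x i) (x j)) {z : G}
    (hz : z ∈ J x a b) : z ^ 2 = 1 := by
  induction hz using closure_induction with
  | mem w hw => obtain ⟨k, -, rfl⟩ := hw; exact hord k
  | one => rw [one_pow]
  | mul v w hv hw hv' hw' =>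
    have hvw : Commute v w := by
      refine (commute_of_mem_J (h := w) (fun k h1 h2 => ?_) hv).symm
      exact (commute_of_mem_J (h := x k) (fun l h3 h4 => hc k l h1 h2 h3 h4) hw).symm
    rw [hvw.mul_pow, hv', hw', one_mul]
  | inv v hv hv' => rw [inv_pow, hv', inv_one]

/-- The local configuration. -/
structure Config (H P Q : Subgroup G) (t u : ℕ) (f : ℤ → G) : Prop where
  card : Nat.card P = 2 ^ t
  Jp : J f 0 t = P
  Jq : J f 0 (t - 1) = Q
  gen : J f (-1) (t - 1) ⊔ J f 0 t = H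
  ord : ∀ k, f k ^ 2 = 1
  ne_one : ∀ k, f k ≠ 1
  com : ∀ i j : ℤ, i < j → j - i < u → Commute (f i) (f j)
  no : u < t → ∀ i : ℤ, ¬ Commute (f i) (f (i + u))
  rule : ∀ i j : ℤ, i < j → j - i < t → ⁅f j, f i⁆ ∈ J f (i + 1) j
  disj : ∀ a b c : ℤ, a ≤ b → b ≤ c → c - a ≤ t → J f a b ⊓ J f b c = ⊥
  small : (t = 2 ∧ u = 2) ∨ (t = 3 ∧ u = 2) ∨ (t = 4 ∧ u = 3)
  middle : 3 ≤ t → ¬ H ≤ normalizer (J f 1 (t - 1) : Set G)
  middle' : 3 ≤ t → ¬ H ≤ normalizer (J f 0 (t - 2) : Set G)
  shift : ∃ φ : MulAut G, ∀ k : ℤ, φ (f k) = f (k + 1)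
  card_J : ∀ (a : ℤ) (l : ℕ), l ≤ t → Nat.card (J f a (a + l)) = 2 ^ l

theorem exists_config {H P : Subgroup G} {n : ℕ} (hn : 2 ≤ n) (hO : Cfsg.pCore 2 ↥H ≠ ⊥)
    (e : ↥H ⧸ Cfsg.pCore 2 ↥H ≃* DihedralGroup n) (hPH : P ≤ H) (hP : IsPGroup 2 P)
    (hPsyl : ¬ 2 ∣ P.relIndex H) {y : G} (hy2 : y ^ 2 ∈ P ⊔ centralizer (P : Set G))
    (hyN : MulAut.conj y • P = P)
    (hyQ : ∀ Q : Subgroup G, Q ≤ P → (Q.subgroupOf H).Normal → MulAut.conj y • Q = Q → Q = ⊥) :
    ∃ (Q : Subgroup G) (t u : ℕ) (f : ℤ → G), Q = (Cfsg.pCore 2 ↥H).map H.subtype ∧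
      Config H P Q t u f := by
  classical
  obtain ⟨Q, x, hxH, hQdef, hQN, hQP, hQrel, hinf, hsup⟩ := two_sylows hn e hPH hP hPsyl
  set c : G → Subgroup G → Subgroup G := fun a K => K.map (MulAut.conj a).toMonoidHom with hc
  have hcc : ∀ a b K, c a (c b K) = c (a * b) K := fun a b K => conj_map_map a b K
  have hc1 : ∀ K, c 1 K = K := conj_map_one
  have hcinj : ∀ a, Function.Injective (c a) := fun a K L h => by
    have := congrArg (c a⁻¹) h
    rwa [hcc, hcc, inv_mul_cancel, hc1, hc1] at this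
  have hxy : ∀ K : Subgroup G, MulAut.conj y • K = c y K := fun K => rfl
  have hyP : c y P = P := hyN
  have hyP' : c y⁻¹ P = P := by
    conv_lhs => rw [← hyP, hcc, inv_mul_cancel, hc1]
  have hxQ : c x Q = Q := mem_normalizer_iff_map_conj_eq.mp (hQN hxH)
  have hxQ' : c x⁻¹ Q = Q := by
    conv_lhs => rw [← hxQ, hcc, inv_mul_cancel, hc1]
  have hinf' : P ⊓ c x⁻¹ P = Q := by
    refine hcinj x ?_
    rw [hxQ, ← hinf]
    show (P ⊓ c x⁻¹ P).map _ = _
    rw [map_inf _ _ _ (MulAut.conj x).injective]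
    show c x P ⊓ c x (c x⁻¹ P) = _
    rw [hcc, mul_inv_cancel, hc1, inf_comm]
  have hsup' : P ⊔ c x⁻¹ P = H := by
    refine hcinj x ?_
    rw [show c x (P ⊔ c x⁻¹ P) = c x P ⊔ c x (c x⁻¹ P) from Subgroup.map_sup _ _ _, hcc,
      mul_inv_cancel, hc1, sup_comm]
    rw [show P ⊔ c x P = H from hsup]
    exact (eq_of_le_of_card_ge (by
      rintro _ ⟨h, hh, rfl⟩
      exact mul_mem (mul_mem hxH hh) (inv_mem hxH))
      (card_map_of_injective (MulAut.conj x).injective).ge).symm
  -- the twisting automorphism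
  set φ : G ≃* G := MulAut.conj (x * y)⁻¹ with hφ
  have hφc : ∀ K : Subgroup G, K.map φ.toMonoidHom = c y⁻¹ (c x⁻¹ K) := fun K => by
    rw [hcc, hφ, mul_inv_rev]
  have hPφ : P ⊓ P.map φ.toMonoidHom = c y⁻¹ Q := by
    rw [hφc, ← hinf']
    conv_lhs => rw [← hyP']
    rw [hyP']
    show _ = (P ⊓ c x⁻¹ P).map _
    rw [map_inf _ _ _ (MulAut.conj y⁻¹).injective]
    show _ = c y⁻¹ P ⊓ c y⁻¹ (c x⁻¹ P)
    rw [hyP']
  have hxPH : c x⁻¹ P ≤ H := by rw [← hsup']; exact le_sup_right
  obtain ⟨t, f, ht1, hcardP, hJP, hfφ, hord, hf1, hrule, hdisj, hcardJ⟩ := chain φ P Nat.prime_two (by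
      rw [hPφ, hφc]
      refine (normal_subgroupOf_iff_le_normalizer (map_mono ?_)).mpr ?_
      · rw [← hinf']; exact inf_le_right
      · exact (map_mono (hxPH.trans hQN)).trans (le_normalizer_map _))
    (by
      rw [hPφ, hφc, relIndex_map_map_of_injective _ _ (MulAut.conj y⁻¹).injective]
      conv_lhs => rw [← hxQ']
      rw [relIndex_map_map_of_injective _ _ (MulAut.conj x⁻¹).injective, hQrel])
    (by
      intro K hKP hKn hKφ
      rw [hφc] at hKφ
      have hR : c x⁻¹ K = c y K := by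
        conv_rhs => rw [← hKφ, hcc, mul_inv_cancel, hc1]
      set R := c x⁻¹ K with hRdef
      have hKN : P ≤ normalizer (K : Set G) := (normal_subgroupOf_iff_le_normalizer hKP).mp hKn
      have h1 : c x⁻¹ P ≤ normalizer (R : Set G) := (map_mono hKN).trans (le_normalizer_map _)
      have h2 : P ≤ normalizer (R : Set G) := by
        rw [hR]
        conv_lhs => rw [← hyP]
        exact (map_mono hKN).trans (le_normalizer_map _)
      have h3 : H ≤ normalizer (R : Set G) := hsup' ▸ sup_le h2 h1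
      have h4 : R = K := by
        have := mem_normalizer_iff_map_conj_eq.mp (h3 hxH)
        rw [← this]
        show c x (c x⁻¹ K) = K
        rw [hcc, mul_inv_cancel, hc1]
      refine hyQ K hKP ((normal_subgroupOf_iff_le_normalizer (hKP.trans hPH)).mpr (h4 ▸ h3)) ?_
      rw [hxy, ← hR, h4])
  have hshift : ∀ k a b : ℤ, (J f a b).map (((φ : MulAut G) ^ k)).toMonoidHom = J f (a + k) (b + k) := by
    intro k a b
    have hfk : ∀ l : ℤ, ((φ : MulAut G) ^ k) (f l) = f (l + k) := fun l => by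
      rw [hfφ l, hfφ (l + k), ← MulAut.mul_apply, ← zpow_add, add_comm]
    rw [J, J, MonoidHom.map_closure]
    refine congrArg Subgroup.closure (Set.ext fun g => ⟨?_, ?_⟩)
    · rintro ⟨_, ⟨l, ⟨h1, h2⟩, rfl⟩, rfl⟩
      exact ⟨l + k, ⟨by omega, by omega⟩, (hfk l).symm⟩
    · rintro ⟨l, ⟨h1, h2⟩, rfl⟩
      exact ⟨f (l - k), ⟨l - k, ⟨by omega, by omega⟩, rfl⟩, (hfk (l - k)).trans (by rw [sub_add_cancel])⟩
  have hshift1 : ∀ a b : ℤ, c y⁻¹ (c x⁻¹ (J f a b)) = J f (a + 1) (b + 1) := fun a b => by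
    rw [← hφc, ← hshift 1 a b, zpow_one]
  have hshift' : ∀ a b : ℤ, J f a b = c x (c y (J f (a + 1) (b + 1))) := fun a b => by
    rw [← hshift1, hcc y, mul_inv_cancel, hc1, hcc, mul_inv_cancel, hc1]
  have hJm : J f (-1) ((t : ℤ) - 1) = c x P := by
    rw [hshift' (-1) ((t : ℤ) - 1), show (-1 : ℤ) + 1 = 0 by norm_num,
      show (t : ℤ) - 1 + 1 = t by ring, hJP, hyP]
  have hgen : J f (-1) ((t : ℤ) - 1) ⊔ J f 0 t = H := by
    rw [hJm, hJP, sup_comm]; exact hsup
  have hQcard : 2 * Nat.card Q = 2 ^ t := by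
    rw [← hcardP, ← card_mul_relIndex' hQP, hQrel, mul_comm]
  have hJQ : J f 0 ((t : ℤ) - 1) = Q := by
    refine eq_of_le_of_card_ge ?_ ?_
    · rw [← hinf]
      exact le_inf (hJP ▸ J_mono f le_rfl (by omega))
        ((J_mono f (show (-1 : ℤ) ≤ 0 by omega) le_rfl).trans hJm.le)
    · have h := hcardJ 0 (t - 1) (by omega)
      rw [show (0 : ℤ) + ((t - 1 : ℕ) : ℤ) = (t : ℤ) - 1 by omega] at h
      rw [h]
      obtain ⟨s, rfl⟩ : ∃ s, t = s + 1 := ⟨t - 1, by omega⟩
      rw [pow_succ] at hQcard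
      simp only [Nat.add_sub_cancel]
      omega
  have hJQy : J f 1 t = c y⁻¹ Q := by
    conv_rhs => rw [← hxQ', ← hJQ]
    rw [hshift1]
    congr 1 <;> ring
  -- `y²` fixes what `P` normalises and centralises
  have hy2Q : c (y * y) Q = Q := by
    refine mem_normalizer_iff_map_conj_eq.mp ?_
    rw [← pow_two]
    refine (sup_le (hPH.trans hQN) ?_) hy2
    exact (centralizer_le hQP).trans (centralizer_le_normalizer _)
  have hyQ' : c y⁻¹ Q = c y Q := by
    conv_lhs => rw [← hy2Q, hcc, inv_mul_cancel_left]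
  have hQy : Q ≠ c y⁻¹ Q := fun e => by
    refine hO ?_
    have hQb := hyQ Q hQP ((normal_subgroupOf_iff_le_normalizer (hQP.trans hPH)).mpr hQN) (by
      rw [hxy, ← hyQ', ← e])
    rw [hQdef, map_eq_bot_iff_of_injective _ H.subtype_injective] at hQb
    exact hQb
  -- the middle
  have hmid : ∀ s : ℕ, t = s + 2 → J f 1 ((s : ℤ) + 1) = Q ⊓ c y⁻¹ Q := by
    intro s hs
    refine eq_of_le_of_card_ge (le_inf (hJQ ▸ J_mono f (by omega) (by omega))
      (hJQy ▸ J_mono f le_rfl (by omega))) ?_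
    have h := hcardJ 1 s (by omega)
    rw [show (1 : ℤ) + (s : ℤ) = (s : ℤ) + 1 by ring] at h
    rw [h]
    have hQc : Nat.card Q = 2 ^ (s + 1) := by
      rw [hs, pow_succ] at hQcard
      omega
    obtain ⟨r, hr0, hr⟩ := (Nat.dvd_prime_pow Nat.prime_two).mp
      (hQc ▸ card_dvd_of_le (inf_le_left : Q ⊓ c y⁻¹ Q ≤ Q))
    rw [hr]
    refine Nat.pow_le_pow_right two_pos ?_
    by_contra hlt
    have h1 : Q ⊓ c y⁻¹ Q = Q := eq_of_le_of_card_ge inf_le_left (by
      rw [hr, hQc]; exact Nat.pow_le_pow_right two_pos (by omega))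
    refine hQy (eq_of_le_of_card_ge (inf_eq_left.mp h1) ?_)
    rw [card_map_of_injective (MulAut.conj y⁻¹).injective]
  have hmid' : 3 ≤ t → ¬ H ≤ normalizer (J f 1 ((t : ℤ) - 1) : Set G) := by
    intro ht hN
    obtain ⟨s, rfl⟩ : ∃ s, t = s + 2 := ⟨t - 2, by omega⟩
    rw [show ((s + 2 : ℕ) : ℤ) - 1 = (s : ℤ) + 1 by omega, hmid s rfl] at hN
    have hD : (Q ⊓ c y⁻¹ Q : Subgroup G) = ⊥ := by
      refine hyQ _ (inf_le_left.trans hQP)
        ((normal_subgroupOf_iff_le_normalizer (inf_le_left.trans (hQP.trans hPH))).mpr hN) ?_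
      rw [hxy]
      show (Q ⊓ c y⁻¹ Q).map _ = _
      rw [map_inf _ _ _ (MulAut.conj y).injective]
      show c y Q ⊓ c y (c y⁻¹ Q) = _
      rw [hcc, mul_inv_cancel, hc1, ← hyQ', inf_comm]
    have h1 := hcardJ 1 s (by omega)
    rw [show (1 : ℤ) + (s : ℤ) = (s : ℤ) + 1 by ring, hmid s rfl, hD, card_bot] at h1
    have : 1 < 2 ^ s := Nat.one_lt_pow (by omega) one_lt_two
    omega
  have hmid'' : 3 ≤ t → ¬ H ≤ normalizer (J f 0 ((t : ℤ) - 2) : Set G) := by
    intro ht hN
    obtain ⟨s, rfl⟩ : ∃ s, t = s + 2 := ⟨t - 2, by omega⟩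
    refine hmid' ht ?_
    rw [show ((s + 2 : ℕ) : ℤ) - 1 = (s : ℤ) + 1 by omega, hmid s rfl]
    rw [show ((s + 2 : ℕ) : ℤ) - 2 = (s : ℤ) by omega, hshift' 0 s, zero_add, hmid s rfl] at hN
    have hDy : c y (Q ⊓ c y⁻¹ Q) = Q ⊓ c y⁻¹ Q := by
      show (Q ⊓ c y⁻¹ Q).map _ = _
      rw [map_inf _ _ _ (MulAut.conj y).injective]
      show c y Q ⊓ c y (c y⁻¹ Q) = _
      rw [hcc, mul_inv_cancel, hc1, ← hyQ', inf_comm]
    rw [hDy] at hN
    have h1 := mem_normalizer_iff_map_conj_eq.mp (hN (inv_mem hxH))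
    have h2 : c x (Q ⊓ c y⁻¹ Q) = Q ⊓ c y⁻¹ Q := by
      change c x⁻¹ (c x (Q ⊓ c y⁻¹ Q)) = _ at h1
      rw [hcc, inv_mul_cancel, hc1] at h1
      exact h1.symm
    rw [h2] at hN
    exact hN
  obtain ⟨u, hu1, hut, hcom, hno, h3⟩ := exists_length Nat.prime_two (φ : MulAut G) f ht1 hfφ hord
    hrule hdisj
  have hcom' : ∀ i j : ℤ, i - j < u → j - i < u → Commute (f i) (f j) := by
    intro i j h1 h2
    rcases lt_trichotomy i j with h | rfl | h
    · exact hcom i j h h2
    · exact Commute.refl _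
    · exact (hcom j i h h1).symm
  -- central elements
  have hcen : ∀ k : ℤ, (t : ℤ) - u ≤ k → k + 2 ≤ u → H ≤ centralizer ({f k} : Set G) := by
    intro k hk1 hk2
    rw [← hgen]
    refine sup_le ?_ ?_ <;> refine (closure_le _).mpr ?_ <;> rintro _ ⟨l, ⟨hl1, hl2⟩, rfl⟩ <;>
      exact mem_centralizer_singleton_iff.mpr (hcom' l k (by omega) (by omega)).eq
  have h2u : 2 * u ≤ t + 2 := by
    by_contra hlt
    set a := (t : ℤ) - u with ha
    have hA := hcen a le_rfl (by omega)
    have hB := hcen (a + 1) (by omega) (by omega)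
    have haP : f a ∈ P := hJP ▸ mem_J f (by omega) (by omega)
    have hbP : f (a + 1) ∈ P := hJP ▸ mem_J f (by omega) (by omega)
    have he : f (a + 1) = y⁻¹ * f a * y := by
      rw [hfφ (a + 1), add_comm, zpow_one_add, MulAut.mul_apply, ← hfφ a]
      show (x * y)⁻¹ * f a * (x * y)⁻¹⁻¹ = _
      have h1 : x * f a = f a * x := mem_centralizer_singleton_iff.mp (hA hxH)
      calc (x * y)⁻¹ * f a * (x * y)⁻¹⁻¹ = y⁻¹ * (x⁻¹ * (f a * x)) * y := by group
        _ = y⁻¹ * f a * y := by rw [← h1, inv_mul_cancel_left]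
    have hfix : y * y * f (a + 1) = f (a + 1) * (y * y) := by
      refine mem_centralizer_singleton_iff.mp ?_
      rw [← pow_two]
      refine (sup_le (hPH.trans hB) (centralizer_le (Set.singleton_subset_iff.mpr hbP))) hy2
    set R := closure ({f a, f (a + 1)} : Set G) with hR
    have hRP : R ≤ P := (closure_le _).mpr (by rintro z (rfl | rfl) <;> assumption)
    have hRb := hyQ R hRP ((normal_subgroupOf_iff_le_normalizer (hRP.trans hPH)).mpr ?_) ?_
    · have : f a ∈ R := subset_closure (Set.mem_insert _ _)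
      rw [hRb, mem_bot] at this
      exact hf1 _ this
    · refine le_trans (fun h hh => ?_) (centralizer_le_normalizer _)
      rw [centralizer_closure, mem_centralizer_iff]
      rintro z (rfl | rfl)
      · exact (mem_centralizer_singleton_iff.mp (hA hh)).symm
      · exact (mem_centralizer_singleton_iff.mp (hB hh)).symm
    · rw [hxy]
      show R.map _ = R
      rw [hR, MonoidHom.map_closure, Set.image_pair]
      have e1 : MulAut.conj y (f (a + 1)) = f a := by
        rw [he, MulAut.conj_apply]; group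
      have e2 : MulAut.conj y (f a) = f (a + 1) := by
        rw [MulAut.conj_apply]
        calc y * f a * y⁻¹ = y * y * (y⁻¹ * f a * y) * (y * y)⁻¹ := by group
          _ = f (a + 1) := by rw [← he, hfix, mul_inv_cancel_right]
      show closure {MulAut.conj y (f a), MulAut.conj y (f (a + 1))} = _
      rw [e1, e2, Set.pair_comm]
  have hsmall : (t = 2 ∧ u = 2) ∨ (t = 3 ∧ u = 2) ∨ (t = 4 ∧ u = 3) := by
    have ht2 : 2 ≤ t := by
      by_contra hlt
      have hbot : Q = ⊥ := by rw [← hJQ, J_empty f (by omega)]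
      rw [hQdef, map_eq_bot_iff_of_injective _ H.subtype_injective] at hbot
      exact hO hbot
    by_contra hcon
    have ht6 : t = 6 := by omega
    have hu4 : u = 4 := by omega
    subst ht6 hu4
    refine hmid' (by omega) ?_
    norm_num
    have hD : ∀ i : ℤ, 1 ≤ i → i < 5 → f i ∈ J f 1 5 := fun i h1 h2 => mem_J f h1 h2
    -- `[f₀, f₄]` and `[f₀, f₅]`
    have hw := climb Nat.prime_two f hord (show 1 ≤ 4 by norm_num) (show 4 < 6 by norm_num) hcom
      (hno (by norm_num)) hrule 1 (by norm_num)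
    norm_num at hw
    have hsq : ∀ z ∈ J f 1 5, z ^ 2 = 1 := fun z hz => pow_two_of_mem_J hord
      (fun i j h1 h2 h3 h4 => hcom' i j (by omega) (by omega)) hz
    set d := ⁅f 5, f 0⁆ with hd
    have hd15 : d ∈ J f 1 5 := by simpa using hrule 0 5 (by norm_num) (by norm_num)
    have hinv : ∀ k, (f k)⁻¹ = f k := fun k => inv_eq_of_mul_eq_one_right (by rw [← pow_two, hord])
    have hd5 : Commute (f 5) d := by
      have h1 : f 5 * d * (f 5)⁻¹ = d⁻¹ := by
        rw [hd, commutatorElement_def, hinv, hinv]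
        simp only [mul_inv_rev, hinv, ← mul_assoc]
        rw [← pow_two, hord, one_mul]
      have h2 : d⁻¹ = d := inv_eq_of_mul_eq_one_right (by rw [← pow_two]; exact hsq d hd15)
      exact mul_inv_eq_iff_eq_mul.mp (h1.trans h2)
    have hd25 : d ∈ J f 2 5 := by
      have hn' : J f 1 (1 + 1) ≤ normalizer (J f 2 5 : Set G) := by
        refine le_trans ?_ (centralizer_le_normalizer _)
        rw [le_centralizer_iff]
        intro z hz
        refine mem_centralizer_iff.mpr fun w hw => ?_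
        refine ((commute_of_mem_J (fun k h1 h2 => ?_) hw).eq).symm
        exact (commute_of_mem_J (h := f k) (fun l h3 h4 => hcom' k l (by omega) (by omega)) hz).symm
      have hd' : d ∈ ((J f 1 (1 + 1) ⊔ J f 2 5 : Subgroup G) : Set G) := by
        rw [show (2 : ℤ) = 1 + 1 by norm_num, J_sup f (by norm_num) (by norm_num)]; exact hd15
      rw [coe_mul_of_left_le_normalizer_right _ _ hn'] at hd'
      obtain ⟨z, hz, w, hw', hzw⟩ := hd'
      simp only at hzw
      rw [J_single] at hz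
      obtain ⟨i, rfl⟩ := hz
      rcases Int.even_or_odd i with ⟨m, hm⟩ | ⟨m, hm⟩
      · rw [← hzw]
        show f 1 ^ i * w ∈ _
        rw [hm, ← two_mul, zpow_mul, zpow_two, ← pow_two, hord, one_zpow, one_mul]
        exact hw'
      · exfalso
        have h5w : Commute (f 5) w := commute_of_mem_J (fun k h1 h2 => hcom' _ _ (by omega) (by omega)) hw'
        have h1 : f 1 = d * w⁻¹ := by
          rw [← hzw]
          show f 1 = f 1 ^ i * w * w⁻¹
          rw [mul_inv_cancel_right, hm, zpow_add, zpow_mul, zpow_two, ← pow_two, hord, one_zpow,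
            one_mul, zpow_one]
        have h51 : Commute (f 5) (f 1) := h1 ▸ hd5.mul_right h5w.inv_right
        exact hno (by norm_num) 1 (by simpa using h51.symm)
    -- shift by one
    have hback : ∀ (i j a b : ℤ), ⁅f j, f i⁆ ∈ J f a b → ⁅f (j - 1), f (i - 1)⁆ ∈ J f (a - 1) (b - 1) := by
      intro i j a b h
      have h1 := mem_map_of_mem (((φ : MulAut G) ^ (-1 : ℤ))).toMonoidHom h
      rw [hshift, map_commutatorElement] at h1
      have hfk : ∀ l : ℤ, (((φ : MulAut G) ^ (-1 : ℤ))).toMonoidHom (f l) = f (l - 1) := fun l => by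
        show ((φ : MulAut G) ^ (-1 : ℤ)) (f l) = f (l - 1)
        rw [hfφ l, hfφ (l - 1), ← MulAut.mul_apply, ← zpow_add]
        congr 2; ring
      rw [hfk, hfk] at h1
      exact h1
    rw [← hgen]
    refine sup_le ?_ ?_ <;> refine (closure_le _).mpr ?_ <;> rintro _ ⟨l, ⟨hl1, hl2⟩, rfl⟩ <;>
      rw [SetLike.mem_coe, mem_normalizer_iff_map_conj_eq] <;>
      refine eq_of_le_of_card_ge ?_ (card_map_of_injective (MulAut.conj _).injective).ge <;>
      rw [map_le_iff_le_comap] <;> refine (closure_le _).mpr ?_ <;>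
      rintro _ ⟨k, ⟨hk1, hk2⟩, rfl⟩ <;> show f l * f k * (f l)⁻¹ ∈ J f 1 5
    · by_cases hl : l = -1
      · subst hl
        rw [show f (-1) * f k * (f (-1))⁻¹ = ⁅f k, f (-1)⁆⁻¹ * f k by rw [commutatorElement_def]; group]
        refine mul_mem (inv_mem ?_) (hD k hk1 hk2)
        rcases lt_or_ge k 3 with hk3 | hk3
        · rw [commutatorElement_eq_one_iff_mul_comm.mpr (hcom' _ _ (by omega) (by omega)).eq]
          exact one_mem _
        rcases eq_or_lt_of_le hk3 with e | hk4
        · subst e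
          have h1 : ⁅f 4, f 0⁆ ∈ J f 2 4 := by rw [← commutatorElement_inv]; exact inv_mem hw
          have := hback 0 4 2 4 h1
          norm_num at this
          exact J_mono f (by norm_num) (by norm_num) this
        · have hk5 : k = 4 := by omega
          subst hk5
          have := hback 0 5 2 5 hd25
          norm_num at this
          exact J_mono f (by norm_num) (by norm_num) this
      · rw [show f l * f k * (f l)⁻¹ = ⁅f l, f k⁆ * f k by rw [commutatorElement_def]; group]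
        refine mul_mem ?_ (hD k hk1 hk2)
        rcases lt_trichotomy k l with h | h | h
        · exact J_mono f (by omega) (by omega) (hrule k l h (by omega))
        · rw [h, commutatorElement_self]; exact one_mem _
        · rw [← commutatorElement_inv]
          exact inv_mem (J_mono f (by omega) (by omega) (hrule l k h (by omega)))
    · rw [show f l * f k * (f l)⁻¹ = ⁅f l, f k⁆ * f k by rw [commutatorElement_def]; group]
      refine mul_mem ?_ (hD k hk1 hk2)
      rcases lt_trichotomy k l with h | h | h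
      · exact J_mono f (by omega) (by omega) (hrule k l h (by omega))
      · rw [h, commutatorElement_self]; exact one_mem _
      · rw [← commutatorElement_inv]
        exact inv_mem (J_mono f (by omega) (by omega) (hrule l k h (by omega)))
  exact ⟨Q, t, u, f, hQdef, hcardP, hJP, hJQ, hgen, hord, hf1, hcom, hno, hrule, hdisj, hsmall,
    hmid', hmid'', ⟨(φ : MulAut G), fun k => by
      rw [hfφ k, hfφ (k + 1), add_comm, zpow_one_add, MulAut.mul_apply]⟩, hcardJ⟩

end Cfsg.Agent.SimsChain
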