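import Cfsg.Agent.SimsChain.Chain
import Cfsg.Agent.Core.PCore

/-!
A group with dihedral quotient by its 2-core and an automorphism of a Sylow 2-subgroup: the
geometry.
-/

set_option autoImplicit false
set_option linter.unusedSectionVars false

namespace Cfsg.Agent.SimsChain

open Subgroup
open scoped commutatorElement Pointwise

variable {G : Type*} [Group G] [Finite G]

/-- The abelian length of a chain. -/
theorem exists_length {p t : ℕ} (hp : p.Prime) (φ : MulAut G) (x : ℤ → G) (ht1 : 1 ≤ t)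
    (hxφ : ∀ k, x k = (φ ^ k) (x 0)) (hord : ∀ k, x k ^ p = 1)
    (hrule : ∀ i j : ℤ, i < j → j - i < t → ⁅x j, x i⁆ ∈ J x (i + 1) j)
    (hdisj : ∀ a b c : ℤ, a ≤ b → b ≤ c → c - a ≤ t → J x a b ⊓ J x b c = ⊥) :
    ∃ u : ℕ, 1 ≤ u ∧ u ≤ t ∧ (∀ i j : ℤ, i < j → j - i < u → Commute (x i) (x j)) ∧
      (u < t → ∀ i : ℤ, ¬ Commute (x i) (x (i + u))) ∧ 2 * t ≤ 3 * u := by
  classical
  have hshift : ∀ i j : ℤ, Commute (x i) (x j) ↔ Commute (x 0) (x (j - i)) := by
    intro i j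
    have e : x j = (φ ^ i) (x (j - i)) := by
      rw [hxφ j, hxφ (j - i), ← MulAut.mul_apply, ← zpow_add, add_sub_cancel]
    rw [e, hxφ i]
    exact ⟨fun h => by
        simpa only [MulEquiv.coe_toMonoidHom, MulEquiv.symm_apply_apply] using
          h.map (φ ^ i).symm.toMonoidHom,
      fun h => h.map (φ ^ i).toMonoidHom⟩
  have hex : ∃ k : ℕ, 1 ≤ k ∧ (t ≤ k ∨ ¬ Commute (x 0) (x k)) := ⟨t, ht1, Or.inl le_rfl⟩
  obtain ⟨hu1, hu2⟩ := Nat.find_spec hex
  set u := Nat.find hex with hu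
  have hut : u ≤ t := Nat.find_min' hex ⟨ht1, Or.inl le_rfl⟩
  have hcom : ∀ i j : ℤ, i < j → j - i < u → Commute (x i) (x j) := by
    intro i j hij hju
    obtain ⟨k, hk⟩ : ∃ k : ℕ, j - i = (k : ℤ) := ⟨(j - i).toNat, by omega⟩
    rw [hshift, hk]
    have hmin := Nat.find_min hex (show k < u by omega)
    push Not at hmin
    exact (hmin (by omega)).2
  have hno : u < t → ∀ i : ℤ, ¬ Commute (x i) (x (i + u)) := fun hlt i h =>
    (hu2.resolve_left (by omega)) (by simpa using (hshift _ _).mp h)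
  refine ⟨u, hu1, hut, hcom, hno, ?_⟩
  rcases hut.eq_or_lt with e | hlt
  · omega
  exact two_mul_le hp x hord hu1 hlt hcom (hno hlt) hrule hdisj

theorem odd_of_dihedral {H : Subgroup G} {n : ℕ} (hn : 2 ≤ n)
    (e : ↥H ⧸ Cfsg.pCore 2 ↥H ≃* DihedralGroup n) : Odd n := by
  haveI : NeZero n := ⟨by omega⟩
  by_contra hev
  obtain ⟨m, hm⟩ := Nat.not_odd_iff_even.mp hev
  have hbot : Cfsg.pCore 2 (DihedralGroup n) = ⊥ := by
    rw [← Core.map_pCore e, Core.pCore_quotient_eq_bot, Subgroup.map_bot]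
  have hmm : ((m : ZMod n)) + m = 0 := by rw [← Nat.cast_add, ← hm, ZMod.natCast_self]
  set z : DihedralGroup n := .r m with hz
  have hzc : z ∈ center (DihedralGroup n) := by
    refine mem_center_iff.mpr fun g => ?_
    cases g with
    | r i => rw [hz, DihedralGroup.r_mul_r, DihedralGroup.r_mul_r, add_comm]
    | sr i =>
      rw [hz, DihedralGroup.sr_mul_r, DihedralGroup.r_mul_sr]
      congr 1
      linear_combination hmm
  haveI : (zpowers z).Normal := ⟨fun a ha g => by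
    have hac : a ∈ center (DihedralGroup n) := zpowers_le.mpr hzc ha
    rwa [mem_center_iff.mp hac g, mul_inv_cancel_right]⟩
  have hz2 : z ^ 2 = 1 := by
    rw [pow_two, hz, DihedralGroup.r_mul_r, hmm, DihedralGroup.r_zero]
  have hp2 : IsPGroup 2 (zpowers z) := by
    rintro ⟨a, ⟨i, rfl⟩⟩
    refine ⟨1, Subtype.ext ?_⟩
    show (z ^ i) ^ 2 ^ 1 = 1
    rw [pow_one, ← zpow_natCast, ← zpow_mul, mul_comm, zpow_mul, zpow_natCast, hz2, one_zpow]
  have hle := Core.le_pCore hp2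
  rw [hbot, le_bot_iff, zpowers_eq_bot, hz, DihedralGroup.one_def, DihedralGroup.r.injEq] at hle
  have h0 := congrArg ZMod.val hle
  rw [ZMod.val_natCast, ZMod.val_zero, Nat.mod_eq_of_lt (by omega)] at h0
  omega

theorem two_sylows {H P : Subgroup G} {n : ℕ} (hn : 2 ≤ n)
    (e : ↥H ⧸ Cfsg.pCore 2 ↥H ≃* DihedralGroup n) (hPH : P ≤ H) (hP : IsPGroup 2 P)
    (hPsyl : ¬ 2 ∣ P.relIndex H) :
    ∃ Q : Subgroup G, ∃ x ∈ H, Q = (Cfsg.pCore 2 ↥H).map H.subtype ∧ H ≤ normalizer (Q : Set G) ∧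
      Q ≤ P ∧ Q.relIndex P = 2 ∧ P ⊓ P.map (MulAut.conj x).toMonoidHom = Q ∧
      P ⊔ P.map (MulAut.conj x).toMonoidHom = H := by
  haveI : NeZero n := ⟨by omega⟩
  obtain ⟨c, hc⟩ := odd_of_dihedral hn e
  set C := Cfsg.pCore 2 ↥H with hC
  set S : Sylow 2 ↥H := (hP.comap_subtype : IsPGroup 2 (P.subgroupOf H)).toSylow hPsyl with hS
  have hCS : C ≤ P.subgroupOf H := Core.pCore_le_sylow S
  set π : ↥H →* DihedralGroup n := e.toMonoidHom.comp (QuotientGroup.mk' C) with hπ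
  have hπs : Function.Surjective π := e.surjective.comp (QuotientGroup.mk'_surjective C)
  have hπ1 : ∀ a : ↥H, π a = 1 ↔ a ∈ C := fun a => by
    show e (QuotientGroup.mk a) = 1 ↔ _
    rw [MulEquiv.map_eq_one_iff, QuotientGroup.eq_one_iff]
  have hidx : C.index = 2 * n := by
    rw [index_eq_card, Nat.card_congr e.toEquiv, DihedralGroup.nat_card]
  have hrel : C.relIndex (P.subgroupOf H) = 2 := by
    have h1 := relIndex_mul_index hCS
    rw [hidx] at h1
    obtain ⟨k, hk⟩ := IsPGroup.iff_card.mp (hP.comap_subtype : IsPGroup 2 (P.subgroupOf H))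
    obtain ⟨r, -, hr⟩ := (Nat.dvd_prime_pow Nat.prime_two).mp
      (hk ▸ relIndex_dvd_card C (P.subgroupOf H))
    rw [hr] at h1 ⊢
    rcases r with _ | _ | r
    · rw [pow_zero, one_mul] at h1
      exact absurd (show 2 ∣ (P.subgroupOf H).index from h1.symm ▸ dvd_mul_right 2 n) hPsyl
    · rfl
    · exfalso
      have h2 : 4 ∣ 2 * n := ⟨2 ^ r * (P.subgroupOf H).index, by rw [← h1]; ring⟩
      omega
  haveI : C.Normal := Core.pCore_normal
  have hrel' : (C.subgroupOf (P.subgroupOf H)).index = 2 := hrel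
  obtain ⟨s₀, hs₀⟩ : ∃ s₀ : P.subgroupOf H, s₀ ∉ C.subgroupOf (P.subgroupOf H) := by
    by_contra hcon
    push Not at hcon
    rw [(eq_top_iff.mpr fun a _ => hcon a : C.subgroupOf (P.subgroupOf H) = ⊤), index_top] at hrel'
    omega
  set σ := π s₀ with hσ
  have hσsq : σ * σ = 1 := by
    rw [hσ, ← map_mul, hπ1]
    exact mem_subgroupOf.mp (mul_self_mem_of_index_two hrel' s₀)
  have hσ1 : σ ≠ 1 := fun h => hs₀ (mem_subgroupOf.mpr ((hπ1 _).mp h))
  obtain ⟨j, hj⟩ : ∃ j, σ = DihedralGroup.sr j := by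
    rcases hσe : σ with i | i
    · exfalso
      rw [hσe, DihedralGroup.r_mul_r, DihedralGroup.one_def, DihedralGroup.r.injEq] at hσsq
      refine hσ1 ?_
      rw [hσe, DihedralGroup.one_def, DihedralGroup.r.injEq]
      have h0 : ((2 * c + 1 : ℕ) : ZMod n) = 0 := by rw [← hc, ZMod.natCast_self]
      have : ((2 * c + 1 : ℕ) : ZMod n) * i = i := by
        push_cast
        linear_combination (c : ZMod n) * hσsq
      rw [← this, h0, zero_mul]
    · exact ⟨i, rfl⟩
  have hPπ : ∀ a ∈ P.subgroupOf H, π a = 1 ∨ π a = σ := by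
    intro a ha
    by_cases haC : a ∈ C
    · exact Or.inl ((hπ1 a).mpr haC)
    refine Or.inr ?_
    have h1 : (⟨a, ha⟩ : P.subgroupOf H) * s₀ ∈ C.subgroupOf (P.subgroupOf H) :=
      (Subgroup.mul_mem_iff_of_index_two hrel').mpr
        ⟨fun h => absurd (mem_subgroupOf.mp h) haC, fun h => absurd h hs₀⟩
    have h2 := (hπ1 _).mpr (mem_subgroupOf.mp h1)
    rw [Subgroup.coe_mul, map_mul] at h2
    exact (mul_eq_one_iff_eq_inv.mp h2).trans (inv_eq_of_mul_eq_one_right hσsq)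
  obtain ⟨x, hx⟩ := hπs (DihedralGroup.r 1)
  set σ' := DihedralGroup.r 1 * σ * (DihedralGroup.r 1)⁻¹ with hσ'
  have hσ'e : σ * σ' = DihedralGroup.r (-2) := by
    rw [hσ', hj, DihedralGroup.inv_r, DihedralGroup.r_mul_sr, DihedralGroup.sr_mul_r,
      DihedralGroup.sr_mul_sr]
    congr 1; ring
  have hne : σ ≠ σ' := by
    intro h
    rw [← h, hσsq, DihedralGroup.one_def, DihedralGroup.r.injEq, eq_comm, neg_eq_zero] at hσ'e
    have h2 : ((2 : ℕ) : ZMod n) = 0 := by exact_mod_cast hσ'e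
    rw [ZMod.natCast_eq_zero_iff] at h2
    have := Nat.le_of_dvd (by norm_num) h2
    omega
  set Q := C.map H.subtype with hQ
  set P' := P.map (MulAut.conj (x : G)).toMonoidHom with hP'
  have hQN : H ≤ normalizer (Q : Set G) := by
    intro h hh
    rw [mem_normalizer_iff_map_conj_eq]
    refine eq_of_le_of_card_ge ?_ (card_map_of_injective (MulAut.conj h).injective).ge
    rintro _ ⟨_, ⟨q, hq, rfl⟩, rfl⟩
    exact ⟨⟨h, hh⟩ * q * ⟨h, hh⟩⁻¹, (inferInstance : C.Normal).conj_mem q hq _, rfl⟩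
  have hQP : Q ≤ P := by
    rintro _ ⟨q, hq, rfl⟩
    exact mem_subgroupOf.mp (hCS hq)
  have hP'H : P' ≤ H := by
    rintro _ ⟨a, ha, rfl⟩
    exact mul_mem (mul_mem x.2 (hPH ha)) (inv_mem x.2)
  have hP'π : ∀ a : ↥H, (a : G) ∈ P' → π a = 1 ∨ π a = σ' := by
    rintro a ⟨b, hb, he⟩
    have ha : a = x * ⟨b, hPH hb⟩ * x⁻¹ := Subtype.ext he.symm
    rw [ha, map_mul, map_mul, map_inv, hx]
    rcases hPπ ⟨b, hPH hb⟩ (mem_subgroupOf.mpr hb) with h | h
    · exact Or.inl (by rw [h, mul_one, mul_inv_cancel])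
    · exact Or.inr (by rw [h])
  refine ⟨Q, x, x.2, rfl, hQN, hQP, ?_, ?_, ?_⟩
  · have : Q.subgroupOf H = C := comap_map_eq_self_of_injective H.subtype_injective C
    rw [← relIndex_subgroupOf hPH, this]
    exact hrel
  · refine le_antisymm (fun a ha => ?_) (le_inf hQP ?_)
    · obtain ⟨ha1, ha2⟩ := mem_inf.mp ha
      refine ⟨⟨a, hPH ha1⟩, (hπ1 _).mp ?_, rfl⟩
      rcases hPπ ⟨a, hPH ha1⟩ (mem_subgroupOf.mpr ha1) with h | h
      · exact h
      rcases hP'π ⟨a, hPH ha1⟩ ha2 with h' | h'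
      · exact h'
      · exact absurd (h.symm.trans h') hne
    · exact le_of_eq_of_le (mem_normalizer_iff_map_conj_eq.mp (hQN x.2)).symm (map_mono hQP)
  · refine le_antisymm (sup_le hPH hP'H) fun g hg => ?_
    set L := (P ⊔ P').subgroupOf H with hL
    have hσL : σ ∈ L.map π := ⟨(s₀ : ↥H), mem_subgroupOf.mpr (mem_sup_left (mem_subgroupOf.mp s₀.2)), rfl⟩
    have hσ'L : σ' ∈ L.map π := ⟨x * (s₀ : ↥H) * x⁻¹,
      mem_subgroupOf.mpr (mem_sup_right ⟨_, mem_subgroupOf.mp s₀.2, rfl⟩), by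
        rw [map_mul, map_mul, map_inv, hx]⟩
    have hr : ∀ i : ZMod n, DihedralGroup.r i ∈ L.map π := by
      intro i
      have h1 : ∀ k : ℕ, (DihedralGroup.r (-2 : ZMod n)) ^ k = DihedralGroup.r (-2 * (k : ZMod n)) := by
        intro k
        induction k with
        | zero => rw [pow_zero, Nat.cast_zero, mul_zero, DihedralGroup.r_zero]
        | succ k ih => rw [pow_succ, ih, DihedralGroup.r_mul_r]; congr 1; push_cast; ring
      have h0 : ((2 * c + 1 : ℕ) : ZMod n) = 0 := by rw [← hc, ZMod.natCast_self]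
      push_cast at h0
      have h2 := pow_mem (mul_mem hσL hσ'L) (c * i.val)
      rw [hσ'e, h1] at h2
      convert h2 using 2
      push_cast
      rw [ZMod.natCast_zmod_val]
      linear_combination i * h0
    have htop : L.map π = ⊤ := by
      rw [eq_top_iff]
      intro d _
      cases d with
      | r i => exact hr i
      | sr i =>
        have := mul_mem hσL (hr (i - j))
        rwa [hj, DihedralGroup.sr_mul_r, add_sub_cancel] at this
    obtain ⟨l, hl, hle⟩ := htop.ge (mem_top (π ⟨g, hg⟩))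
    have h3 : l⁻¹ * ⟨g, hg⟩ ∈ C := (hπ1 _).mp (by rw [map_mul, map_inv, hle, inv_mul_cancel])
    have h4 : (l : G)⁻¹ * g ∈ P ⊔ P' := mem_sup_left (hQP ⟨_, h3, rfl⟩)
    have h5 := mul_mem (mem_subgroupOf.mp hl) h4
    rw [mul_inv_cancel_left] at h5
    exact h5

end Cfsg.Agent.SimsChain
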