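import Mathlib

/-!
Interval generated `p`-groups: the abelian length is at least two thirds of the length
(Sims, Glauberman).
-/

set_option autoImplicit false
set_option linter.unusedSectionVars false

namespace Cfsg.Agent.SimsChain

open Subgroup
open scoped commutatorElement

variable {G : Type*} [Group G]

/-- The subgroup generated by `x k`, `a ≤ k < b`. -/
def J (x : ℤ → G) (a b : ℤ) : Subgroup G := closure (x '' Set.Ico a b)

theorem mem_J (x : ℤ → G) {a b k : ℤ} (h₁ : a ≤ k) (h₂ : k < b) : x k ∈ J x a b :=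
  subset_closure ⟨k, ⟨h₁, h₂⟩, rfl⟩

theorem J_mono (x : ℤ → G) {a b c d : ℤ} (h₁ : c ≤ a) (h₂ : b ≤ d) : J x a b ≤ J x c d :=
  closure_mono (Set.image_mono (Set.Ico_subset_Ico h₁ h₂))

theorem J_empty (x : ℤ → G) {a b : ℤ} (h : b ≤ a) : J x a b = ⊥ := by
  rw [J, Set.Ico_eq_empty (not_lt.mpr h), Set.image_empty, Subgroup.closure_empty]

theorem J_sup (x : ℤ → G) {a b c : ℤ} (h₁ : a ≤ b) (h₂ : b ≤ c) : J x a b ⊔ J x b c = J x a c := by
  rw [J, J, J, ← Subgroup.closure_union, ← Set.image_union, Set.Ico_union_Ico_eq_Ico h₁ h₂]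

theorem J_single (x : ℤ → G) (a : ℤ) : J x a (a + 1) = zpowers (x a) := by
  rw [J, show Set.Ico a (a + 1) = {a} by ext k; simp only [Set.mem_Ico, Set.mem_singleton_iff]; omega,
    Set.image_singleton, zpowers_eq_closure]

theorem commute_of_mem_J {x : ℤ → G} {h w : G} {a b : ℤ}
    (hc : ∀ k, a ≤ k → k < b → Commute h (x k)) (hw : w ∈ J x a b) : Commute h w := by
  have hle : J x a b ≤ centralizer ({h} : Set G) := (closure_le _).mpr (by
    rintro _ ⟨k, ⟨h1, h2⟩, rfl⟩
    exact mem_centralizer_singleton_iff.mpr (hc k h1 h2).eq.symm)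
  exact (mem_centralizer_singleton_iff.mp (hle hw)).symm

/-- The climbing step. -/
theorem climb {p t u : ℕ} (hp : p.Prime) (x : ℤ → G) (hord : ∀ k, x k ^ p = 1) (hu : 1 ≤ u)
    (hut : u < t) (hcom : ∀ i j : ℤ, i < j → j - i < u → Commute (x i) (x j))
    (hno : ∀ i : ℤ, ¬ Commute (x i) (x (i + u)))
    (hrule : ∀ i j : ℤ, i < j → j - i < t → ⁅x j, x i⁆ ∈ J x (i + 1) j) :
    ∀ d : ℕ, d + 1 + u ≤ t → ⁅x 0, x u⁆ ∈ J x (d + 1) u := by
  have hcom' : ∀ i j : ℤ, i - j < u → j - i < u → Commute (x i) (x j) := by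
    intro i j h1 h2
    rcases lt_trichotomy i j with h | rfl | h
    · exact hcom i j h h2
    · exact Commute.refl _
    · exact (hcom j i h h1).symm
  intro d
  induction d with
  | zero =>
    intro _
    have h := hrule 0 u (by omega) (by omega)
    rw [← commutatorElement_inv]
    exact inv_mem (by simpa using h)
  | succ d ih =>
    intro hd
    have hw := ih (by omega)
    push_cast
    set a : ℤ := (d : ℤ) + 1 with ha
    set w := ⁅x 0, x u⁆ with hwdef
    have hau : a < u := by
      by_contra hlt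
      rw [J_empty x (not_lt.mp hlt), mem_bot, hwdef, commutatorElement_eq_one_iff_mul_comm] at hw
      exact hno 0 (by rw [zero_add]; exact hw)
    -- split off the first factor
    have hn : J x a (a + 1) ≤ normalizer (J x (a + 1) u : Set G) := by
      refine le_trans ?_ (centralizer_le_normalizer _)
      rw [le_centralizer_iff]
      intro z hz
      refine mem_centralizer_iff.mpr fun s hs => ?_
      refine ((commute_of_mem_J (fun k h1 h2 => ?_) hs).eq).symm
      exact (commute_of_mem_J (h := x k) (fun l h3 h4 => hcom' k l (by omega) (by omega)) hz).symm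
    have hw' : w ∈ ((J x a (a + 1) ⊔ J x (a + 1) u : Subgroup G) : Set G) := by
      rw [J_sup x (by omega) (by omega)]; exact hw
    rw [coe_mul_of_left_le_normalizer_right _ _ hn] at hw'
    obtain ⟨c₁, hc₁, w', hw'', hww⟩ := hw'
    simp only at hww
    rw [J_single] at hc₁
    by_cases hc : c₁ = 1
    · rw [← hww, hc, one_mul]; exact hw''
    exfalso
    -- conjugate by `h`
    set h := x (a + u) with hh
    set c := ⁅h, x 0⁆ with hcdef
    have hcJ : c ∈ J x 1 (a + u) := by
      simpa using hrule 0 (a + u) (by omega) (by omega)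
    have hcu : Commute (x u) c := commute_of_mem_J (fun k h1 h2 => hcom' _ _ (by omega) (by omega)) hcJ
    have hcw : Commute c w := by
      refine (commute_of_mem_J (h := w) (fun k h1 h2 => ?_) hcJ).symm
      exact (commute_of_mem_J (h := x k) (fun l h3 h4 => hcom' k l (by omega) (by omega)) hw).symm
    have hhu : Commute h (x u) := hcom' _ _ (by omega) (by omega)
    have hfix : h * w * h⁻¹ = w := by
      calc h * w * h⁻¹ = ⁅h * x 0 * h⁻¹, h * x u * h⁻¹⁆ := by
            simp only [hwdef, commutatorElement_def]; group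
        _ = ⁅c * x 0, x u⁆ := by
            rw [hhu.eq, mul_inv_cancel_right, hcdef]
            simp only [commutatorElement_def]; group
        _ = c * w * (x u * c⁻¹ * (x u)⁻¹) := by
            simp only [hwdef, commutatorElement_def]; group
        _ = w := by rw [(hcu.inv_right).eq, mul_inv_cancel_right, hcw.eq, mul_inv_cancel_right]
    have hhw : Commute h w := mul_inv_eq_iff_eq_mul.mp hfix
    have hhw' : Commute h w' := commute_of_mem_J (fun k h1 h2 => hcom' _ _ (by omega) (by omega)) hw''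
    have hhc : Commute h c₁ := by
      have e : c₁ = w * w'⁻¹ := by rw [← hww, mul_inv_cancel_right]
      rw [e]
      exact hhw.mul_right hhw'.inv_right
    haveI := Fact.mk hp
    obtain ⟨i, hi⟩ := hc₁
    have ho : orderOf (x a) = p := orderOf_eq_prime (hord a) fun e => hc (by
      rw [← hi]; show x a ^ i = 1; rw [e, one_zpow])
    have htop : x a ∈ zpowers c₁ := by
      have hle : zpowers c₁ ≤ zpowers (x a) := zpowers_le.mpr ⟨i, hi⟩
      have hfin : Finite (zpowers (x a)) :=
        Nat.finite_of_card_ne_zero (by rw [Nat.card_zpowers, ho]; exact hp.ne_zero)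
      have he : zpowers c₁ = zpowers (x a) := by
        refine eq_of_le_of_card_ge hle ?_
        rw [Nat.card_zpowers, Nat.card_zpowers, ho]
        have hd : orderOf c₁ ∣ p := ho ▸ orderOf_dvd_of_mem_zpowers ⟨i, hi⟩
        rcases (Nat.dvd_prime hp).mp hd with e | e
        · exact absurd (orderOf_eq_one_iff.mp e) hc
        · exact e.ge
      rw [he]; exact mem_zpowers _
    obtain ⟨j, hj⟩ := htop
    refine hno a (show Commute (x a) h from ?_)
    rw [← hj]
    exact (hhc.symm).zpow_left j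

/-- The abelian length is at least two thirds of the length. -/
theorem two_mul_le {p t u : ℕ} (hp : p.Prime) (x : ℤ → G) (hord : ∀ k, x k ^ p = 1) (hu : 1 ≤ u)
    (hut : u < t) (hcom : ∀ i j : ℤ, i < j → j - i < u → Commute (x i) (x j))
    (hno : ∀ i : ℤ, ¬ Commute (x i) (x (i + u)))
    (hrule : ∀ i j : ℤ, i < j → j - i < t → ⁅x j, x i⁆ ∈ J x (i + 1) j)
    (hdisj : ∀ a b c : ℤ, a ≤ b → b ≤ c → c - a ≤ t → J x a b ⊓ J x b c = ⊥) :
    2 * t ≤ 3 * u := by
  by_contra hlt
  obtain ⟨d, hd⟩ : ∃ d : ℕ, t = d + 1 + u := ⟨t - u - 1, by omega⟩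
  have h1 := climb hp x hord hu hut hcom hno hrule d hd.ge
  set y : ℤ → G := fun k => x ((u : ℤ) - k) with hy
  have hJ : ∀ a b : ℤ, J y a b = J x ((u : ℤ) - b + 1) ((u : ℤ) - a + 1) := by
    intro a b
    refine congrArg Subgroup.closure (Set.ext fun g => ⟨?_, ?_⟩)
    · rintro ⟨k, ⟨h1, h2⟩, rfl⟩
      exact ⟨(u : ℤ) - k, ⟨by omega, by omega⟩, rfl⟩
    · rintro ⟨k, ⟨h1, h2⟩, rfl⟩
      exact ⟨(u : ℤ) - k, ⟨by omega, by omega⟩, congrArg x (by omega)⟩
  have h2 := climb hp y (fun k => hord _) hu hut (fun i j h h' => (hcom _ _ (by omega) (by omega)).symm)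
    (fun i h => hno ((u : ℤ) - (i + u)) (by
      rw [show (u : ℤ) - (i + u) + u = (u : ℤ) - i by omega]
      exact h.symm))
    (fun i j h h' => by
      rw [hJ, ← commutatorElement_inv]
      refine inv_mem ?_
      have := hrule ((u : ℤ) - j) ((u : ℤ) - i) (by omega) (by omega)
      exact J_mono x (by omega) (by omega) this) d hd.ge
  rw [hJ] at h2
  have h3 : ⁅x 0, x u⁆ ∈ J x 1 ((u : ℤ) - (d + 1) + 1) := by
    rw [← commutatorElement_inv]
    refine inv_mem ?_
    have := J_mono x (show (1 : ℤ) ≤ (u : ℤ) - u + 1 by omega) (le_refl ((u : ℤ) - (d + 1) + 1)) h2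
    simpa [hy] using this
  refine hno 0 ?_
  rw [zero_add, commute_iff_eq, ← commutatorElement_eq_one_iff_mul_comm]
  rcases lt_or_ge (u : ℤ) ((d : ℤ) + 1) with hud | hud
  · rwa [J_empty x hud.le, mem_bot] at h1
  have h4 : ⁅x 0, x u⁆ ∈ J x 1 ((d : ℤ) + 1) := J_mono x le_rfl (by omega) h3
  have h5 := mem_inf.mpr ⟨h4, h1⟩
  rwa [hdisj 1 ((d : ℤ) + 1) u (by omega) hud (by omega), mem_bot] at h5

end Cfsg.Agent.SimsChain
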